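import Cfsg.Agent.Lib.Spor.Golay.CensusTop
import Cfsg.Agent.Lib.Spor.Golay.CensusTools

/-!
Involutions of the stabiliser of a pair through their moved pairs, and sums over them through orbits.
-/

set_option autoImplicit false
set_option maxRecDepth 100000

namespace Cfsg.Agent.Spor.JFour.OrderT

open Cfsg Cfsg.Agent.Spor.Golay Cfsg.Agent.Spor.Golay.Census
open scoped Pointwise

/-- The pairs moved by a permutation. -/
def moved (σ : Equiv.Perm GolayPt) : Finset (Finset GolayPt) :=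
  (Finset.univ.filter fun p => σ p ≠ p).image fun p => {p, σ p}

theorem smul_moved (g σ : Equiv.Perm GolayPt) : g • moved σ = moved (g * σ * g⁻¹) := by
  ext s
  rw [Finset.mem_smul_finset]
  simp only [moved, Finset.mem_image, Finset.mem_filter, Finset.mem_univ, true_and]
  constructor
  · rintro ⟨_, ⟨p, hp, rfl⟩, rfl⟩
    refine ⟨g p, fun e => hp (g.injective (by simpa using e)), ?_⟩
    rw [Finset.smul_finset_insert, Finset.smul_finset_singleton]
    simp
  · rintro ⟨p, hp, rfl⟩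
    refine ⟨{g⁻¹ p, σ (g⁻¹ p)}, ⟨g⁻¹ p, fun e => hp ?_, rfl⟩, ?_⟩
    · rw [Equiv.Perm.mul_apply, Equiv.Perm.mul_apply, e]
      simp
    · rw [Finset.smul_finset_insert, Finset.smul_finset_singleton]
      simp

theorem moved_inj {σ τ : Equiv.Perm GolayPt} (hσ : σ * σ = 1) (hτ : τ * τ = 1) (h : moved σ = moved τ) : σ = τ := by
  have inv : ∀ {π : Equiv.Perm GolayPt}, π * π = 1 → ∀ p, π (π p) = p := fun {π} hπ p => by
    rw [← Equiv.Perm.mul_apply, hπ, Equiv.Perm.one_apply]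
  have key : ∀ {π ρ : Equiv.Perm GolayPt}, ρ * ρ = 1 → moved π = moved ρ → ∀ p, π p ≠ p → ρ p = π p := by
    intro π ρ hρ h p hp
    have : ({p, π p} : Finset GolayPt) ∈ moved ρ := h ▸ Finset.mem_image.2 ⟨p, by simpa using hp, rfl⟩
    simp only [moved, Finset.mem_image, Finset.mem_filter, Finset.mem_univ, true_and] at this
    obtain ⟨q, hq, e⟩ := this
    have hpq : p = q ∨ p = ρ q := by
      have : p ∈ ({q, ρ q} : Finset GolayPt) := e ▸ by simp
      simpa using this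
    have hπ : π p = q ∨ π p = ρ q := by
      have : π p ∈ ({q, ρ q} : Finset GolayPt) := e ▸ by simp
      simpa using this
    rcases hpq with rfl | rfl
    · exact (hπ.resolve_left hp).symm
    · rw [inv hρ]
      exact (hπ.resolve_right hp).symm
  refine Equiv.ext fun p => ?_
  by_cases hp : σ p = p
  · by_contra hne
    exact hne (by rw [hp]; exact (Classical.not_not.1 fun hτp => hτp (hp ▸ (key hσ h.symm p hτp).symm)).symm)
  · exact (key hτ h p hp).symm

/-- The moved pairs of a packed permutation. -/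
def movedL (Q : ℕ) : List ℕ :=
  ((List.range 24).filter fun i => decide (i < Golay.get Q i)).map fun i => 2 ^ i ||| 2 ^ Golay.get Q i

theorem pts_pair {i j : ℕ} (hi : i < 24) (hj : j < 24) : pts (2 ^ i ||| 2 ^ j) = {pt i, pt j} := by
  ext p
  rw [mem_pts, Nat.testBit_or, Nat.testBit_two_pow, Nat.testBit_two_pow, Bool.or_eq_true, decide_eq_true_eq,
    decide_eq_true_eq, Finset.mem_insert, Finset.mem_singleton]
  constructor
  · rintro (e | e)
    · left; rw [e, pt_idx]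
    · right; rw [e, pt_idx]
  · rintro (rfl | rfl)
    · left; rw [idx_pt hi]
    · right; rw [idx_pt hj]

theorem fam_movedL {Q : ℕ} (hQ : valid Q = true) (h2 : comp Q Q = idP) : fam (movedL Q) = moved (permOf Q) := by
  have hinv : ∀ p, permOf Q (permOf Q p) = p := fun p => by
    rw [← Equiv.Perm.mul_apply, ← permOf_comp hQ hQ, h2, permOf_idP, Equiv.Perm.one_apply]
  have hlt := (valid_iff.mp hQ).2
  ext s
  simp only [fam, List.mem_toFinset, List.mem_map, movedL, List.mem_filter, List.mem_range, decide_eq_true_eq,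
    moved, Finset.mem_image, Finset.mem_filter, Finset.mem_univ, true_and]
  have himg : ∀ {i}, i < 24 → permOf Q (pt i) = pt (Golay.get Q i) := fun {i} hi => idx_injective (by
    rw [idx_permOf hQ, idx_pt hi, idx_pt (hlt i hi)])
  constructor
  · rintro ⟨_, ⟨i, ⟨hi, hlt'⟩, rfl⟩, rfl⟩
    refine ⟨pt i, fun e => ?_, by rw [pts_pair hi (hlt i hi), himg hi]⟩
    have := congrArg idx e
    rw [himg hi, idx_pt (hlt i hi), idx_pt hi] at this
    omega
  · rintro ⟨p, hp, rfl⟩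
    have hne : Golay.get Q (idx p) ≠ idx p := fun e => hp (idx_injective (by rw [idx_permOf hQ, e]))
    rcases Nat.lt_or_gt_of_ne hne with h | h
    · have hj := hlt _ (idx_lt p)
      refine ⟨_, ⟨Golay.get Q (idx p), ⟨hj, ?_⟩, rfl⟩, ?_⟩
      · have := congrArg idx (hinv p)
        rw [idx_permOf hQ, idx_permOf hQ] at this
        rwa [this]
      · rw [pts_pair hj (hlt _ hj), ← himg hj, ← himg (idx_lt p), pt_idx, hinv, Finset.pair_comm]
    · exact ⟨_, ⟨idx p, ⟨idx_lt p, h⟩, rfl⟩, by rw [pts_pair (idx_lt p) (hlt _ (idx_lt p)), ← himg (idx_lt p), pt_idx]⟩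

/-- The standard pair. -/
def pairD : Finset GolayPt := pts 3

theorem fam_three : fam [3] = {pairD} := by simp [fam, pairD]

theorem mem_Fx_pair {g : Equiv.Perm GolayPt} : g ∈ Fx [[3]] ↔ g ∈ M24 ∧ g • pairD = pairD := by
  rw [mem_Fx_one, fam_three, Finset.smul_finset_singleton, Finset.singleton_inj]

/-- The involutions of the stabiliser and the identity. -/
noncomputable def invSet : Finset (Equiv.Perm GolayPt) := by
  classical exact Finset.univ.filter fun σ => σ ∈ M24 ∧ σ * σ = 1 ∧ σ • pairD = pairD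

theorem mem_invSet {σ : Equiv.Perm GolayPt} : σ ∈ invSet ↔ σ ∈ M24 ∧ σ * σ = 1 ∧ σ • pairD = pairD := by
  simp [invSet]

theorem conj_mem_invSet {g σ : Equiv.Perm GolayPt} (hg : g ∈ Fx [[3]]) (hσ : σ ∈ invSet) :
    g * σ * g⁻¹ ∈ invSet := by
  obtain ⟨hg1, hg2⟩ := mem_Fx_pair.1 hg
  obtain ⟨h1, h2, h3⟩ := mem_invSet.1 hσ
  refine mem_invSet.2 ⟨mul_mem (mul_mem hg1 h1) (inv_mem hg1), ?_, ?_⟩
  · rw [show g * σ * g⁻¹ * (g * σ * g⁻¹) = g * (σ * σ) * g⁻¹ by group, h2, mul_one, mul_inv_cancel]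
  · have hg' : g⁻¹ • pairD = pairD := by rw [inv_smul_eq_iff, hg2]
    rw [mul_smul, mul_smul, hg', h3, hg2]

/-- Data of an orbit: the certificate and a representative. -/
noncomputable def repOk (O : Orb) (Q : ℕ) : Bool :=
  valid Q && inM24 Q && Nat.beq (comp Q Q) idP && Nat.beq (imgMask (Golay.get Q) 3) 3 &&
    eqL (srt (movedL Q)) (O.obj 0)

theorem repOk_spec {O : Orb} {Q : ℕ} (h : repOk O Q = true) :
    permOf Q ∈ invSet ∧ fam (O.obj 0) = moved (permOf Q) := by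
  simp only [repOk, Bool.and_eq_true] at h
  obtain ⟨⟨⟨⟨hv, hm⟩, h2⟩, h3⟩, h4⟩ := h
  have h2' : comp Q Q = idP := Nat.eq_of_beq_eq_true h2
  refine ⟨mem_invSet.2 ⟨permOf_mem_M24 hm, by rw [← permOf_comp hv hv, h2', permOf_idP], ?_⟩, ?_⟩
  · have hi : img Q [3] = [3] := by
      rw [img, List.map_cons, List.map_nil, Nat.eq_of_beq_eq_true h3]; rfl
    have := fam_img hv [3]
    rw [hi, fam_three, Finset.smul_finset_singleton, Finset.singleton_inj] at this
    exact this.symm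
  · rw [← eqL_spec h4, ← fam_movedL hv h2']
    ext s
    simp [fam, mem_srt]

/-- The elements of an orbit. -/
noncomputable def orbSet (O : Orb) : Finset (Equiv.Perm GolayPt) := by
  classical exact invSet.filter fun τ => moved τ ∈ O.famSet

theorem mem_orbSet {O : Orb} {τ : Equiv.Perm GolayPt} : τ ∈ orbSet O ↔ τ ∈ invSet ∧ moved τ ∈ O.famSet := by
  simp [orbSet]

variable {F : List (List ℕ)} {gens : List ℕ} {n : ℕ}

/-- An orbit of a stabiliser inside that of the pair on involutions. -/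
theorem orb_spec (hS : Stage F gens n) (hF : Fx F ≤ Fx [[3]]) {O : Orb} (hO : O.ok gens = true) {Q : ℕ}
    (hQ : repOk O Q = true) :
    (orbSet O).card = O.n ∧ ∀ τ ∈ orbSet O, ∃ g ∈ Fx F, g * permOf Q * g⁻¹ = τ := by
  classical
  obtain ⟨hQ1, hQ2⟩ := repOk_spec hQ
  obtain ⟨ho, hn⟩ := hS.orbit hO
  have hex : ∀ X ∈ O.famSet, ∃ g ∈ Fx F, moved (g * permOf Q * g⁻¹) = X := fun X hX => by
    rw [← ho] at hX
    obtain ⟨⟨g, hg⟩, rfl⟩ := hX
    exact ⟨g, hg, by rw [← smul_moved, ← hQ2]; rfl⟩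
  refine ⟨?_, fun τ hτ => ?_⟩
  · rw [← hn, Set.ncard_eq_toFinset_card _ (Set.toFinite _)]
    refine Finset.card_bij (fun τ _ => moved τ) (fun τ hτ => ?_) (fun a ha b hb e => ?_) fun X hX => ?_
    · rw [Set.Finite.mem_toFinset]; exact (mem_orbSet.1 hτ).2
    · exact moved_inj (mem_invSet.1 (mem_orbSet.1 ha).1).2.1 (mem_invSet.1 (mem_orbSet.1 hb).1).2.1 e
    · rw [Set.Finite.mem_toFinset] at hX
      obtain ⟨g, hg, e⟩ := hex X hX
      exact ⟨_, mem_orbSet.2 ⟨conj_mem_invSet (hF hg) hQ1, e ▸ hX⟩, e⟩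
  · obtain ⟨hτ1, hτ2⟩ := mem_orbSet.1 hτ
    obtain ⟨g, hg, e⟩ := hex _ hτ2
    exact ⟨g, hg, moved_inj (mem_invSet.1 (conj_mem_invSet (hF hg) hQ1)).2.1 (mem_invSet.1 hτ1).2.1 e⟩

/-- A sum over the involutions from a covering by orbits of the right total length. -/
theorem sum_orbits (hS : Stage F gens n) (hF : Fx F ≤ Fx [[3]]) {r : ℕ} (Os : Fin r → Orb) (Qs : Fin r → ℕ)
    (hok : ∀ i, (Os i).ok gens = true) (hrep : ∀ i, repOk (Os i) (Qs i) = true)
    (hcov : ∀ τ ∈ invSet, ∃ i, moved τ ∈ (Os i).famSet) (hsum : ∑ i, (Os i).n = invSet.card)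
    (d : Equiv.Perm GolayPt → ℕ) (hd : ∀ g ∈ Fx F, ∀ τ ∈ invSet, d (g * τ * g⁻¹) = d τ) :
    ∑ τ ∈ invSet, d τ = ∑ i, (Os i).n * d (permOf (Qs i)) := by
  classical
  set m : Equiv.Perm GolayPt → ℕ := fun τ => (Finset.univ.filter fun i => τ ∈ orbSet (Os i)).card with hm
  have hswap : ∀ f : Equiv.Perm GolayPt → ℕ,
      ∑ i, ∑ τ ∈ orbSet (Os i), f τ = ∑ τ ∈ invSet, m τ * f τ := by
    intro f
    simp only [hm, Finset.card_filter, Finset.sum_mul, ite_mul, one_mul, zero_mul]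
    rw [Finset.sum_comm]
    refine Finset.sum_congr rfl fun i _ => ?_
    rw [← Finset.sum_filter]
    refine Finset.sum_congr (Finset.ext fun τ => ?_) fun _ _ => rfl
    simp only [Finset.mem_filter]
    exact ⟨fun h => ⟨(mem_orbSet.1 h).1, h⟩, fun h => h.2⟩
  have hm1 : ∀ τ ∈ invSet, 1 ≤ m τ := fun τ hτ => by
    obtain ⟨i, hi⟩ := hcov τ hτ
    exact Finset.card_pos.2 ⟨i, Finset.mem_filter.2 ⟨Finset.mem_univ _, mem_orbSet.2 ⟨hτ, hi⟩⟩⟩
  have htot : ∑ τ ∈ invSet, m τ = invSet.card := by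
    rw [← hsum]
    have h := hswap fun _ => 1
    simp only [mul_one, Finset.sum_const, smul_eq_mul] at h
    rw [← h]
    exact Finset.sum_congr rfl fun i _ => (orb_spec hS hF (hok i) (hrep i)).1
  have hone : ∀ τ ∈ invSet, 1 = m τ :=
    (Finset.sum_eq_sum_iff_of_le hm1).1 (by rw [htot, Finset.card_eq_sum_ones])
  rw [show ∑ τ ∈ invSet, d τ = ∑ τ ∈ invSet, m τ * d τ from
    Finset.sum_congr rfl fun τ hτ => by rw [← hone τ hτ, one_mul], ← hswap]
  refine Finset.sum_congr rfl fun i _ => ?_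
  obtain ⟨hc, hg⟩ := orb_spec hS hF (hok i) (hrep i)
  rw [← hc, ← smul_eq_mul, ← Finset.sum_const]
  refine Finset.sum_congr rfl fun τ hτ => ?_
  obtain ⟨g, hg', rfl⟩ := hg τ hτ
  exact hd g hg' _ (repOk_spec (hrep i)).1

end Cfsg.Agent.Spor.JFour.OrderT
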