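import Cfsg.Agent.Lib.Spor.JFourType.Mathieu.Fusion

/-!
Certificates for the classes of the involutions outside the elementary abelian group in its normaliser: paths in
the core to the lower half and elements centralising the representative of the first class.
-/

set_option autoImplicit false
set_option maxRecDepth 100000
set_option Elab.async false

open Cfsg Cfsg.Agent.Spor.Golay
open Cfsg.Agent.Spor.Cos.J4Sub (app mm)

namespace Cfsg.Agent.Spor.JFour.OrderT

open Mathieu

/-- The matrix of a packed permutation on the duads. -/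
def matQ (Q : ℕ) : List ℕ :=
  (List.range 11).map fun i => (unitDuads i).foldr (fun a s => cN (Golay.get Q 0) ^^^ cN (Golay.get Q a) ^^^ s) 0

/-- Numbers below 2048, and the realisation. -/
def matOK (Q : ℕ) : Bool := permOK (matQ Q) Q && (matQ Q).all fun c => decide (c < 2048)

/-- The image of one plus a matrix, as a list. -/
def imList (M : List ℕ) : List ℕ :=
  (List.range 11).foldl (fun L i => if L.contains (2 ^ i ^^^ app M (2 ^ i)) then L else
    L ++ L.map (fun w => w ^^^ (2 ^ i ^^^ app M (2 ^ i)))) [0]

/-- Elements centralising the representative of the first class. -/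
def centOne : List ℕ :=
  [0xa88aeb5e893363003c2b40e5351187, 0x6bee54bab65d2278110664e4a00443, 0x719b4046e40d4b09adea45a493b062,
    0xa81d7796489d22411c70505ac3592b, 0x289ae652413c6ef52c8098ea9b1a08, 0x72cb2345a8b5ea4989f05268361c20,
    0xb9a55245c3534af825029da8b004ec]

/-- Start, path and class. -/
def paths : List (ℕ × List ℕ × Bool) :=
  [(64, [7, 4], false), (68, [0, 6, 4, 3, 4], true), (72, [5, 9, 4, 3, 4], true), (76, [4, 7, 4, 9, 4], true),
    (1408, [4, 7, 4], false), (1410, [6, 4], true)]

/-- Follow a path. -/
def follow : List ℕ → ℕ → ℕ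
  | [], n => n
  | i :: p, n => follow p (app (moveM.getD i []) n)

theorem path_check : (paths.all fun r => r.2.1.all (fun i => decide (i < 10)) &&
    decide (r.1 < 4096) && decide (0 < follow r.2.1 r.1) && decide (follow r.2.1 r.1 < 64) &&
      (tMask.testBit (2 * follow r.2.1 r.1) == r.2.2) && (tMask.testBit (2 * follow r.2.1 r.1 + 1) == r.2.2)) =
    true := by
  decide +kernel

theorem cent_check : (centOne.all fun Q => matOK Q && (comp Q u1P == comp u1P Q)) = true := by decide +kernel

theorem one_check : ((List.range 2048).all fun v => !(app u1M v == v) || (imList u1M).contains v ||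
    ((([8, 16].all fun d => (imList u1M).contains (v ^^^ d) ||
        centOne.any fun Q => (imList u1M).contains (app (matQ Q) v ^^^ v ^^^ d))) &&
      centOne.any fun Q => (imList u1M).contains (app (matQ Q) v ^^^ 8))) = true := by
  decide +kernel

theorem two_check : ((List.range 2048).all fun v => !(app u2M v == v) || (imList u2M).contains v ||
    (imList u2M).contains (v ^^^ 4)) = true ∧
    cN 0 ^^^ cN (Golay.get u2P 0) = 4 ∧ (imList u1M).contains 16 = false ∧ (imList u1M).contains 8 = false ∧
    (imList u1M).contains (8 ^^^ 16) = false ∧ [u1M, u2M].all (fun M => decide (M.length = 11)) = true := by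
  decide +kernel

theorem mem_imList (M : List ℕ) : ∀ {v : ℕ}, (imList M).contains v = true →
    ∃ w < 2048, v = w ^^^ app M w := by
  suffices h : ∀ (L : List ℕ), (∀ i ∈ L, i < 11) → ∀ (acc : List ℕ), (∀ x ∈ acc, ∃ w < 2048, x = w ^^^ app M w) →
      ∀ x ∈ L.foldl (fun L i => if L.contains (2 ^ i ^^^ app M (2 ^ i)) then L else
        L ++ L.map (fun w => w ^^^ (2 ^ i ^^^ app M (2 ^ i)))) acc, ∃ w < 2048, x = w ^^^ app M w by
    intro v hv
    refine h _ (fun i hi => List.mem_range.1 hi) [0] (fun x hx => ⟨0, by norm_num, ?_⟩) v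
      (List.contains_iff_mem.1 hv)
    rw [List.mem_singleton] at hx
    rw [hx, Cos.J4Sub.app_zero, Nat.xor_self]
  intro L hL
  induction L with
  | nil => intro acc hacc x hx; exact hacc x hx
  | cons i L ih =>
    intro acc hacc
    rw [List.foldl_cons]
    refine ih (fun j hj => hL j (List.mem_cons_of_mem _ hj)) _ fun x hx => ?_
    split at hx
    · exact hacc x hx
    rw [List.mem_append, List.mem_map] at hx
    rcases hx with hx | ⟨y, hy, rfl⟩
    · exact hacc x hx
    · obtain ⟨w, hw, rfl⟩ := hacc y hy
      refine ⟨w ^^^ 2 ^ i, Nat.xor_lt_two_pow (n := 11) hw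
        (Nat.pow_lt_pow_right (by norm_num) (hL i (List.mem_cons_self ..))), ?_⟩
      rw [Cos.J4Sub.app_xor]
      simp only [Nat.xor_assoc]
      congr 1
      rw [← Nat.xor_assoc, Nat.xor_comm (app M w), Nat.xor_assoc]

end Cfsg.Agent.Spor.JFour.OrderT
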