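import Cfsg.Agent.Lib.Spor.JFourType.OrbitExcl
import Cfsg.Agent.Lib.Spor.JFourType.Mathieu.Final
import Cfsg.Agent.Lib.Spor.JFourType.Mathieu.SecondCentralizer
import Cfsg.Agent.Lib.Spor.JFourType.OrderT.ClassData

/-!
A complement of the elementary abelian group of order 2¹¹ in its normaliser whose involutions are all conjugate to
the central involution, and the classes of the other involutions of the normaliser.
-/

set_option autoImplicit false
set_option maxRecDepth 100000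
set_option linter.style.haveILetI false

open Cfsg Cfsg.Agent.Spor.Golay
open Cfsg.Agent.Spor.Cos.J4Sub (app mm app_xor app_zero)

namespace Cfsg.Agent.Spor.JFour.Frame

open Mathieu OrderT

variable {G : Type*} [Group G] {z : G} {P : Subgroup G} {S : Setting z P} (Fr : Frame S) [Finite G]

/-- A complement adapted to the two classes. -/
structure Kap where
  /-- the map to the Mathieu group -/
  f : ↥(Subgroup.normalizer (Fr.A : Set G)) →* ↥Cfsg.M24
  ker : ∀ n, f n = 1 ↔ (n : G) ∈ Fr.A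
  hf : ∀ n a b, a ≠ b → Fr.actV n (cV a + cV b) =
    cV ((f n : Equiv.Perm GolayPt) a) + cV ((f n : Equiv.Perm GolayPt) b)
  /-- the section -/
  κ : ↥Cfsg.M24 →* ↥(Subgroup.normalizer (Fr.A : Set G))
  sect : ∀ σ, f (κ σ) = σ
  base : ∀ σ : ↥Cfsg.M24, (σ : Equiv.Perm GolayPt) = permOf u2P →
    ∃ e < 2048, (imList u2M).contains e = true ∧ (κ σ : G) = Fr.Av e * Fr.u2

/-- An element with given image is a translate of a lift. -/
theorem exists_translate {f : ↥(Subgroup.normalizer (Fr.A : Set G)) →* ↥Cfsg.M24}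
    (hker : ∀ n, f n = 1 ↔ (n : G) ∈ Fr.A) {m n : ↥(Subgroup.normalizer (Fr.A : Set G))} (h : f m = f n) :
    ∃ e < 2048, (m : G) = Fr.Av e * n := by
  obtain ⟨e, he, ee⟩ := (hker (m * n⁻¹)).1 (by rw [map_mul, map_inv, h, mul_inv_cancel])
  refine ⟨e, he, ?_⟩
  have : Fr.Av e = (m : G) * (n : G)⁻¹ := ee
  rw [this, inv_mul_cancel_right]

/-- An involution in a coset is fixed. -/
theorem coset_fixed {u : G} {M : List ℕ} (hM : Fr.Act u M) (hu : u * u = 1) {v : ℕ} (hv : v < 2048)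
    (h : Fr.Av v * u * (Fr.Av v * u) = 1) : app M v = v := by
  have h3 : Fr.Av v * (u * Fr.Av v * u⁻¹) = 1 := by
    rw [inv_eq_of_mul_eq_one_right hu, ← h]; group
  rw [hM.eq v hv, Fr.Av_mul hv (hM.lt v), ← Fr.Av_zero] at h3
  exact (Nat.xor_eq_zero_iff.1 (Fr.Av_inj (Nat.xor_lt_two_pow (n := 11) hv (hM.lt v)) (by norm_num) h3)).symm

theorem rep_Av_low {v : ℕ} (hv : v < 128) : S.rep (Fr.Av v) = Fr.F.Φ (v / 2) := by
  rw [Av, show v / 128 = 0 by omega, Fr.X.b_zero, mul_one, show v / 2 % 64 = v / 2 by omega,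
    S.rep_mul _ (S.zp_mem_E _) _ (Fr.F.toCoord.lh_spec _).1,
    (S.rep_zero _ (S.zp_mem_E _)).2 (by cases v.testBit 0 <;> simp [zp]), zero_add, (Fr.F.toCoord.lh_spec _).2.1]

omit [Finite G] in
theorem follow_lt [Finite G] {p : List ℕ} (hp : ∀ i ∈ p, i < 10) :
    ∀ {n : ℕ}, n < 4096 → ∀ x ∈ twoCoreOfCentralizer z, S.rep x = Fr.F.Φ n →
      ∃ g : G, g * x * g⁻¹ ∈ twoCoreOfCentralizer z ∧ S.rep (g * x * g⁻¹) = Fr.F.Φ (follow p n) := by
  induction p with
  | nil => intro n _ x hx e; exact ⟨1, by simpa using hx, by simpa [follow] using e⟩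
  | cons i p ih =>
    intro n hn x hx e
    have hi : i < 10 := hp i (List.mem_cons_self ..)
    have hM : moveM.getD i [] ∈ moveM := by
      rw [List.getD_eq_getElem _ _ (by simpa [moveM] using hi)]; exact List.getElem_mem _
    obtain ⟨g, hg⟩ := Fr.mover hM
    obtain ⟨k, hk1, hk2⟩ := ih (fun j hj => hp j (List.mem_cons_of_mem _ hj)) (app_lt_of_ok hg.ok n) _
      (S.ext.norm g hg.hz x hx) (by rw [← S.act_rep g hg.hz x hx, e, hg.eq n hn])
    have e' : k * g * x * (k * g)⁻¹ = k * (g * x * g⁻¹) * k⁻¹ := by group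
    exact ⟨k * g, by rwa [e'], by rw [e']; exact hk2⟩

/-- The class of an involution of the core from a path. -/
theorem core_class (hfus : Fr.Classes) {r : ℕ × List ℕ × Bool} (hr : r ∈ paths) {x : G}
    (hx : x ∈ twoCoreOfCentralizer z) (e : S.rep x = Fr.F.Φ r.1) : IsConj z x ↔ r.2.2 = false := by
  have h := List.all_eq_true.1 path_check r hr
  simp only [Bool.and_eq_true, List.all_eq_true, decide_eq_true_eq, beq_iff_eq] at h
  obtain ⟨⟨⟨⟨⟨hp, hn⟩, h0⟩, h64⟩, hb0⟩, hb1⟩ := h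
  obtain ⟨g, hg1, hg2⟩ := Fr.follow_lt hp hn x hx e
  generalize follow r.2.1 r.1 = m at *
  obtain ⟨v, hv, hv0, hvb, hve⟩ : ∃ v < 2048, v ≠ 0 ∧ tMask.testBit v = r.2.2 ∧ Fr.Av v = g * x * g⁻¹ := by
    rcases Fr.F.toCoord.lh_cases hg1 hg2 with h | h
    · exact ⟨2 * m, by omega, by omega, hb0, by rw [Fr.Av_low h64, h]⟩
    · refine ⟨2 * m + 1, by omega, by omega, hb1, ?_⟩
      have hx1 : 2 * m ^^^ 1 = 2 * m + 1 := by
        rw [show 2 * m + 1 = 2 ^ 1 * m ||| 1 from Nat.two_pow_add_eq_or_of_lt (i := 1) (by norm_num) m,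
          show 2 * m = 2 ^ 1 * m from rfl]
        refine Nat.eq_of_testBit_eq fun j => ?_
        rw [Nat.testBit_xor, Nat.testBit_or, Nat.testBit_two_pow_mul]
        cases j <;> simp [Nat.testBit_succ]
      rw [← hx1, ← Fr.Av_mul (by omega) (by norm_num), Fr.Av_low h64, Fr.Av_one, h]
  rw [show IsConj z x ↔ ∃ k : G, k * z * k⁻¹ = Fr.Av v from ?_, hfus v hv, hvb]
  · exact ⟨fun h => h.2, fun h => ⟨hv0, h⟩⟩
  rw [hve, isConj_iff]
  exact ⟨fun ⟨k, hk⟩ => ⟨g * k, by rw [← hk]; group⟩, fun ⟨k, hk⟩ => ⟨g⁻¹ * k, by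
    rw [show g⁻¹ * k * z * (g⁻¹ * k)⁻¹ = g⁻¹ * (k * z * k⁻¹) * g by group, hk]; group⟩⟩

theorem rep_u : S.rep Fr.u1 = Fr.F.Φ 64 ∧ S.rep Fr.u2 = Fr.F.Φ 1408 := by
  refine ⟨(Fr.F.toCoord.lh_spec _).2.1, ?_⟩
  have h : ∀ n, Fr.F.lh n ∈ twoCoreOfCentralizer z := fun n => (Fr.F.toCoord.lh_spec n).1
  show S.rep (Fr.F.lh (2 <<< 6) * Fr.F.lh (4 <<< 6) * Fr.F.lh (16 <<< 6)) = _
  rw [S.rep_mul _ (mul_mem (h _) (h _)) _ (h _), S.rep_mul _ (h _) _ (h _), (Fr.F.toCoord.lh_spec _).2.1,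
    (Fr.F.toCoord.lh_spec _).2.1, (Fr.F.toCoord.lh_spec _).2.1, ← Fr.F.toCoord.add, ← Fr.F.toCoord.add]
  rfl

/-- The class of a translate inside the core. -/
theorem translate_class (hfus : Fr.Classes) {u : G} {n : ℕ} (hn : n < 4096) (hu : u ∈ twoCoreOfCentralizer z)
    (e : S.rep u = Fr.F.Φ n) {v : ℕ} (hv : v < 128) {b : Bool} {p : List ℕ}
    (hp : (n ^^^ v / 2, p, b) ∈ paths) : IsConj z (Fr.Av v * u) ↔ b = false := by
  refine Fr.core_class hfus hp (mul_mem (Fr.Av_core hv) hu) ?_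
  rw [S.rep_mul _ (Fr.Av_core hv) _ hu, Fr.rep_Av_low hv, e, ← Fr.F.toCoord.add, Nat.xor_comm]

/-- The class is constant on the translates by commutators. -/
theorem translate_move {u : G} {M : List ℕ} (hM : Fr.Act u M) {v w : ℕ} (hv : v < 2048)
    (h : (imList M).contains (v ^^^ w) = true) :
    IsConj z (Fr.Av v * u) ↔ IsConj z (Fr.Av w * u) := by
  obtain ⟨c, hc, e⟩ := mem_imList M h
  have hw : w = v ^^^ (c ^^^ app M c) := by rw [← e, ← Nat.xor_assoc, Nat.xor_self, Nat.zero_xor]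
  have hcj : IsConj (Fr.Av v * u) (Fr.Av w * u) :=
    isConj_iff.2 ⟨Fr.Av c, by rw [Fr.coset_move hM hv hc, hw]⟩
  exact ⟨fun h => h.trans hcj, fun h => h.trans hcj.symm⟩

/-- Existence of the complement. -/
theorem exists_kap (D : Fr.Duadic) : Nonempty Fr.Kap := by
  classical
  obtain ⟨f0, K, hKN, hKA, hsup, hf, e, he⟩ := Fr.exists_M24 D
  obtain ⟨f, hker, hsurj, hf'⟩ := Fr.exists_toM24 D
  have hff : ∀ n, f0 n = f n := by
    intro n
    refine Subtype.ext (Equiv.ext fun a => ?_)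
    by_contra hne
    set σ := (f0 n : Equiv.Perm GolayPt)
    set τ := (f n : Equiv.Perm GolayPt)
    have key : ∀ b, a ≠ b → σ a = τ a ∨ σ a = τ b := fun b hab => by
      have h := cocode.pair_inj (Finset.card_pair fun e => hab (σ.injective e))
        (Finset.card_pair fun e => hab (τ.injective e)) (by
          rw [Finset.sum_pair (fun e => hab (σ.injective e)), Finset.sum_pair (fun e => hab (τ.injective e)),
            ← hf n a b hab, ← hf' n a b hab])
      have h1 : σ a ∈ ({τ a, τ b} : Finset GolayPt) := h ▸ by simp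
      simpa using h1
    obtain ⟨b, hb⟩ := Finset.card_pos.1 (show 0 < (Finset.univ.erase a).card by
      rw [Finset.card_erase_of_mem (Finset.mem_univ a), Finset.card_univ, card_golayPt]; norm_num)
    obtain ⟨d, hd⟩ := Finset.card_pos.1 (show 0 < ((Finset.univ.erase a).erase b).card by
      rw [Finset.card_erase_of_mem hb, Finset.card_erase_of_mem (Finset.mem_univ a), Finset.card_univ,
        card_golayPt]; norm_num)
    simp only [Finset.mem_erase, Finset.mem_univ, and_true] at hb hd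
    have h1 := (key b (Ne.symm hb)).resolve_left hne
    have h2 := (key d (Ne.symm hd.2)).resolve_left hne
    exact hd.1 (τ.injective (h2.symm.trans h1))
  let κ : ↥Cfsg.M24 →* ↥(Subgroup.normalizer (Fr.A : Set G)) := (Subgroup.inclusion hKN).comp e.symm.toMonoidHom
  have hsect : ∀ σ, f (κ σ) = σ := fun σ => by
    rw [← hff]
    exact (he (e.symm σ) (hKN (e.symm σ).2)).symm.trans (e.apply_symm_apply σ)
  obtain ⟨-, b2, bA, bE⟩ := Fr.u_spec
  have hu2N := Fr.mem_normalizer_of_act bA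
  have hu2f : (f ⟨Fr.u2, hu2N⟩ : Equiv.Perm GolayPt) = permOf u2P := Fr.toM24_eq hf' bA hu2N class_checks.2.1
  obtain ⟨htwo, hδ, -⟩ := two_check
  -- the offset
  obtain ⟨σ2, hσ2⟩ : ∃ σ2 : ↥Cfsg.M24, (σ2 : Equiv.Perm GolayPt) = permOf u2P := ⟨_, hu2f⟩
  obtain ⟨e0, he0, ee0⟩ := Fr.exists_translate hker
    (m := κ σ2) (n := ⟨Fr.u2, hu2N⟩) (by rw [hsect]; exact Subtype.ext (hσ2.trans hu2f.symm))
  have hfix : app u2M e0 = e0 := by
    refine Fr.coset_fixed bA b2 he0 ?_
    rw [← ee0, ← Subgroup.coe_mul, ← map_mul,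
      show σ2 * σ2 = 1 from Subtype.ext (by
        rw [Subgroup.coe_mul, hσ2, ← permOf_comp (by decide +kernel) (by decide +kernel),
          class_checks.2.2.2.1, permOf_idP]; rfl), map_one]
    rfl
  by_cases h0 : (imList u2M).contains e0 = true
  · exact ⟨⟨f, hker, hf', κ, hsect, fun σ hσ => by
      obtain rfl : σ = σ2 := Subtype.ext (hσ.trans hσ2.symm)
      exact ⟨e0, he0, h0, ee0⟩⟩⟩
  have h4 : (imList u2M).contains (e0 ^^^ 4) = true := by
    have h := List.all_eq_true.1 htwo e0 (List.mem_range.2 he0)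
    simp only [hfix, beq_self_eq_true, Bool.not_true, Bool.false_or, Bool.or_eq_true] at h
    exact h.resolve_left h0
  -- the twist by the cocycle of a point
  let dd : ↥Cfsg.M24 → ℕ := fun σ => cN 0 ^^^ cN (idx ((σ : Equiv.Perm GolayPt) (pt 0)))
  have hdd : ∀ σ, dd σ < 2048 := fun σ =>
    Nat.xor_lt_two_pow (n := 11) (cN_lt' (by norm_num)) (cN_lt' (idx_lt _))
  have hmv : ∀ (σ : ↥Cfsg.M24) (a b : GolayPt), (κ σ : G) * Fr.Av (cN (idx a) ^^^ cN (idx b)) * (κ σ : G)⁻¹ =
      Fr.Av (cN (idx ((σ : Equiv.Perm GolayPt) a)) ^^^ cN (idx ((σ : Equiv.Perm GolayPt) b))) := by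
    intro σ a b
    by_cases hab : a = b
    · subst hab; rw [Nat.xor_self, Nat.xor_self, Fr.Av_zero, mul_one, mul_inv_cancel]
    have hv : cN (idx a) ^^^ cN (idx b) < 2048 :=
      Nat.xor_lt_two_pow (n := 11) (cN_lt' (idx_lt a)) (cN_lt' (idx_lt b))
    obtain ⟨w, hw, ew⟩ := (Subgroup.mem_normalizer_iff.1 (κ σ).2 _).1 (Fr.Av_mem hv)
    have h1 := hf' (κ σ) a b hab
    rw [hsect, ← duad_eq, ← duad_eq, Fr.actV_vb (κ σ) hv hw ew.symm] at h1
    rw [← ew, vb_inj hw (Nat.xor_lt_two_pow (n := 11) (cN_lt' (idx_lt _)) (cN_lt' (idx_lt _))) h1]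
  let κ' : ↥Cfsg.M24 →* ↥(Subgroup.normalizer (Fr.A : Set G)) :=
    { toFun := fun σ => ⟨Fr.Av (dd σ) * κ σ, mul_mem (Subgroup.le_normalizer (Fr.Av_mem (hdd σ))) (κ σ).2⟩
      map_one' := Subtype.ext (by
        show Fr.Av (cN 0 ^^^ cN (idx (((1 : ↥Cfsg.M24) : Equiv.Perm GolayPt) (pt 0)))) * _ = _
        rw [OneMemClass.coe_one, Equiv.Perm.one_apply, idx_pt (by norm_num), Nat.xor_self, Fr.Av_zero, map_one,
          one_mul])
      map_mul' := fun σ τ => Subtype.ext (by
        show Fr.Av (dd (σ * τ)) * (κ (σ * τ) : G) = Fr.Av (dd σ) * κ σ * (Fr.Av (dd τ) * κ τ)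
        have hm := hmv σ (pt 0) ((τ : Equiv.Perm GolayPt) (pt 0))
        rw [idx_pt (by norm_num)] at hm
        rw [map_mul, Subgroup.coe_mul,
          show Fr.Av (dd σ) * κ σ * (Fr.Av (dd τ) * κ τ) =
            Fr.Av (dd σ) * ((κ σ : G) * Fr.Av (dd τ) * (κ σ : G)⁻¹) * ((κ σ : G) * κ τ) by group,
          hm, Fr.Av_mul (hdd σ) (Nat.xor_lt_two_pow (n := 11) (cN_lt' (idx_lt _)) (cN_lt' (idx_lt _)))]
        congr 2
        show cN 0 ^^^ _ = (cN 0 ^^^ _) ^^^ _
        rw [Subgroup.coe_mul, Equiv.Perm.mul_apply, Nat.xor_assoc, ← Nat.xor_assoc (cN (idx _)), Nat.xor_self,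
          Nat.zero_xor]) }
  refine ⟨⟨f, hker, hf', κ', fun σ => ?_, fun σ hσ => ?_⟩⟩
  · have h1 : f ⟨Fr.Av (dd σ), Subgroup.le_normalizer (Fr.Av_mem (hdd σ))⟩ = 1 := (hker _).2 (Fr.Av_mem (hdd σ))
    show f ((⟨Fr.Av (dd σ), Subgroup.le_normalizer (Fr.Av_mem (hdd σ))⟩ :
      ↥(Subgroup.normalizer (Fr.A : Set G))) * κ σ) = σ
    rw [map_mul, h1, one_mul, hsect]
  · obtain rfl : σ = σ2 := Subtype.ext (hσ.trans hσ2.symm)
    have hd4 : dd σ = 4 := by
      show cN 0 ^^^ _ = _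
      rw [hσ, idx_permOf (by decide +kernel), idx_pt (by norm_num), hδ]
    refine ⟨e0 ^^^ 4, Nat.xor_lt_two_pow (n := 11) he0 (by norm_num), h4, ?_⟩
    show Fr.Av (dd σ) * (κ σ : G) = _
    rw [hd4, ee0, ← mul_assoc, Fr.Av_mul (by norm_num) he0, Nat.xor_comm]

namespace Kap

variable {Fr} (K : Fr.Kap)

/-- The section as elements of the group. -/
def el (σ : ↥Cfsg.M24) : G := (K.κ σ : G)

theorem el_mul (σ τ : ↥Cfsg.M24) : K.el (σ * τ) = K.el σ * K.el τ := by
  show (K.κ (σ * τ) : G) = _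
  rw [map_mul]; rfl

theorem el_one : K.el 1 = 1 := by
  show (K.κ 1 : G) = _
  rw [map_one]; rfl

theorem act_el (σ : ↥Cfsg.M24) {Q : ℕ} (hQ : matOK Q = true) (e : (σ : Equiv.Perm GolayPt) = permOf Q) :
    Fr.Act (K.el σ) (matQ Q) := by
  simp only [matOK, Bool.and_eq_true, List.all_eq_true, decide_eq_true_eq] at hQ
  exact Fr.act_of_toM24 K.hf (K.κ σ) hQ.2 hQ.1 (by rw [K.sect]; exact e)

/-- Every element of the normaliser is a translate of a section element. -/
theorem exists_translate {n : G} (hn : n ∈ Subgroup.normalizer (Fr.A : Set G)) :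
    ∃ v < 2048, n = Fr.Av v * K.el (K.f ⟨n, hn⟩) :=
  Fr.exists_translate K.ker (m := ⟨n, hn⟩) (n := K.κ (K.f ⟨n, hn⟩)) (by rw [K.sect])

/-- The section of the representative of the first class is a translate by a commutator. -/
theorem base_one (hfus : Fr.Classes) (σ : ↥Cfsg.M24) (hσ : (σ : Equiv.Perm GolayPt) = permOf u1P) :
    (∃ e < 2048, (imList u1M).contains e = true ∧ K.el σ = Fr.Av e * Fr.u1) ∧
      ∀ v < 2048, app u1M v = v → (imList u1M).contains v = false → ¬ IsConj z (Fr.Av v * Fr.u1) := by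
  obtain ⟨⟨a2, aA, aE⟩, -⟩ := Fr.u_spec
  have haN := Fr.mem_normalizer_of_act aA
  obtain ⟨e, he, ee⟩ := Fr.exists_translate K.ker (m := K.κ σ) (n := ⟨Fr.u1, haN⟩)
    (by rw [K.sect]; exact Subtype.ext (hσ.trans (Fr.toM24_eq K.hf aA haN class_checks.1).symm))
  have hfix : app u1M e = e := by
    refine Fr.coset_fixed aA a2 he ?_
    show Fr.Av e * (⟨Fr.u1, haN⟩ : ↥(Subgroup.normalizer (Fr.A : Set G))) * _ = 1
    rw [← ee, ← Subgroup.coe_mul, ← map_mul,
      show σ * σ = 1 from Subtype.ext (by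
        rw [Subgroup.coe_mul, hσ, ← permOf_comp (by decide +kernel) (by decide +kernel),
          class_checks.2.2.1, permOf_idP]; rfl), map_one]
    rfl
  have cls : ∀ d ∈ [(0, false), (8, true), (16, true)], IsConj z (Fr.Av d.1 * Fr.u1) ↔ d.2 = false := by
    obtain ⟨hr, -⟩ := Fr.rep_u
    intro d hd
    simp only [List.mem_cons, List.not_mem_nil, or_false] at hd
    rcases hd with rfl | rfl | rfl
    · exact Fr.translate_class hfus (by norm_num) aE hr (by norm_num) (p := [7, 4]) (by simp [paths])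
    · exact Fr.translate_class hfus (by norm_num) aE hr (by norm_num) (p := [0, 6, 4, 3, 4]) (by simp [paths])
    · exact Fr.translate_class hfus (by norm_num) aE hr (by norm_num) (p := [5, 9, 4, 3, 4]) (by simp [paths])
  have mv : ∀ Q ∈ centOne, ∀ v < 2048,
      IsConj z (Fr.Av v * Fr.u1) ↔ IsConj z (Fr.Av (app (matQ Q) (v ^^^ e) ^^^ e) * Fr.u1) := by
    intro Q hQ v hv
    have hc := List.all_eq_true.1 cent_check Q hQ
    simp only [Bool.and_eq_true, beq_iff_eq] at hc
    have hm := hc.1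
    simp only [matOK, permOK, Bool.and_eq_true] at hm
    have hval : valid Q = true := by
      have := hm.1.1; simp only [inM24, Bool.and_eq_true] at this; exact this.1
    let g : ↥Cfsg.M24 := ⟨permOf Q, permOf_mem_M24 hm.1.1⟩
    have hA := K.act_el g hc.1 rfl
    have hcomm : g * σ = σ * g := Subtype.ext (by
      rw [Subgroup.coe_mul, Subgroup.coe_mul, hσ]
      show permOf Q * _ = _ * permOf Q
      rw [← permOf_comp hval (by decide +kernel), hc.2, permOf_comp (by decide +kernel) hval])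
    have hfixg : K.el g * K.el σ = K.el σ * K.el g := by rw [← K.el_mul, hcomm, K.el_mul]
    have hve := Nat.xor_lt_two_pow (n := 11) hv he
    have hcj : IsConj (Fr.Av v * Fr.u1) (Fr.Av (app (matQ Q) (v ^^^ e) ^^^ e) * Fr.u1) := by
      refine isConj_iff.2 ⟨K.el g, ?_⟩
      have e1 : Fr.Av v * Fr.u1 = Fr.Av (v ^^^ e) * K.el σ := by
        rw [show K.el σ = Fr.Av e * Fr.u1 from ee, ← mul_assoc, Fr.Av_mul hve he, Nat.xor_assoc, Nat.xor_self,
          Nat.xor_zero]
      rw [e1, show K.el g * (Fr.Av (v ^^^ e) * K.el σ) * (K.el g)⁻¹ =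
        (K.el g * Fr.Av (v ^^^ e) * (K.el g)⁻¹) * (K.el g * K.el σ) * (K.el g)⁻¹ by group, hA.eq _ hve, hfixg,
        mul_assoc, mul_inv_cancel_right, show K.el σ = Fr.Av e * Fr.u1 from ee, ← mul_assoc,
        Fr.Av_mul (hA.lt _) he]
    exact ⟨fun h => h.trans hcj, fun h => h.trans hcj.symm⟩
  have hchk := fun v (hv : v < 2048) => List.all_eq_true.1 one_check v (List.mem_range.2 hv)
  obtain ⟨-, -, h16, h8, h24, -⟩ := two_check
  have hsymm : ∀ {a b : ℕ}, (imList u1M).contains (a ^^^ b) = true → (imList u1M).contains (b ^^^ a) = true :=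
    fun {a b} h => by rwa [Nat.xor_comm]
  have hein : (imList u1M).contains e = true := by
    by_contra hne
    rw [Bool.not_eq_true] at hne
    have h := hchk e he
    simp only [hfix, beq_self_eq_true, Bool.not_true, Bool.false_or, hne, Bool.and_eq_true, List.all_eq_true,
      List.mem_cons, List.not_mem_nil, or_false, Bool.or_eq_true, List.any_eq_true, forall_eq_or_imp,
      forall_eq] at h
    obtain ⟨⟨h8', h16'⟩, -⟩ := h
    -- a neighbour of the origin in the orbit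
    have key : ∀ d, (d = 8 ∨ d = 16) → (∃ Q ∈ centOne, (imList u1M).contains (app (matQ Q) e ^^^ e ^^^ d) = true) →
        False := by
      intro d hd ⟨Q, hQ, hQd⟩
      have hM := (List.all_eq_true.1 cent_check Q hQ)
      simp only [Bool.and_eq_true, matOK, List.all_eq_true, decide_eq_true_eq] at hM
      have hlt := Cos.J4Sub.app_lt (n := 11) hM.1.2 e
      have h0 := (mv Q hQ 0 (by norm_num)).1 ((cls (0, false) (by simp)).2 rfl)
      rw [Nat.zero_xor, Fr.translate_move aA (Nat.xor_lt_two_pow (n := 11) hlt he) hQd] at h0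
      rcases hd with rfl | rfl
      · exact Bool.noConfusion ((cls (8, true) (by simp)).1 h0)
      · exact Bool.noConfusion ((cls (16, true) (by simp)).1 h0)
    rcases h8' with h8' | h8'
    · rcases h16' with h16' | h16'
      · obtain ⟨a, -, ea⟩ := mem_imList _ h8'
        obtain ⟨b, -, eb⟩ := mem_imList _ h16'
        have hab : (imList u1M).contains (8 ^^^ 16) = true := by
          have : ∀ x y, (imList u1M).contains x = true → (imList u1M).contains y = true →
              (imList u1M).contains (x ^^^ y) = true := by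
            have hcl : ((imList u1M).all fun x => (imList u1M).all fun y => (imList u1M).contains (x ^^^ y)) = true := by
              decide +kernel
            intro x y hx hy
            exact List.all_eq_true.1 (List.all_eq_true.1 hcl x (List.contains_iff_mem.1 hx)) y
              (List.contains_iff_mem.1 hy)
          have := this _ _ h8' h16'
          rwa [Nat.xor_assoc, ← Nat.xor_assoc 8, Nat.xor_comm 8 e, Nat.xor_assoc e, ← Nat.xor_assoc e e,
            Nat.xor_self, Nat.zero_xor] at this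
        rw [h24] at hab
        exact Bool.noConfusion hab
      · exact key 16 (Or.inr rfl) h16'
    · exact key 8 (Or.inl rfl) h8'
  refine ⟨⟨e, he, hein, ee⟩, fun v hv hvf hvn hz' => ?_⟩
  have h := hchk v hv
  simp only [hvf, beq_self_eq_true, Bool.not_true, Bool.false_or, hvn, Bool.and_eq_true, List.any_eq_true] at h
  obtain ⟨-, Q, hQ, hQ8⟩ := h
  have hM := (List.all_eq_true.1 cent_check Q hQ)
  simp only [Bool.and_eq_true, matOK, List.all_eq_true, decide_eq_true_eq] at hM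
  have hlt := Cos.J4Sub.app_lt (n := 11) hM.1.2
  have h1 := (mv Q hQ v hv).1 hz'
  obtain ⟨a, ha, ea⟩ := mem_imList _ hein
  have him : (imList u1M).contains ((app (matQ Q) (v ^^^ e) ^^^ e) ^^^ 8) = true := by
    have hall : ((imList u1M).all fun x => centOne.all fun Q => (imList u1M).contains (app (matQ Q) x) &&
        (imList u1M).all fun y => (imList u1M).contains (x ^^^ y)) = true := by decide +kernel
    have hsum : ∀ x y, (imList u1M).contains x = true → (imList u1M).contains y = true →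
        (imList u1M).contains (x ^^^ y) = true := fun x y hx hy => by
      have := List.all_eq_true.1 (List.all_eq_true.1 hall x (List.contains_iff_mem.1 hx)) Q hQ
      simp only [Bool.and_eq_true] at this
      exact List.all_eq_true.1 this.2 y (List.contains_iff_mem.1 hy)
    have hQe := List.all_eq_true.1 (List.all_eq_true.1 hall e (List.contains_iff_mem.1 hein)) Q hQ
    simp only [Bool.and_eq_true] at hQe
    have := hsum _ _ hQ8 (hsum _ _ hQe.1 hein)
    rw [app_xor]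
    convert this using 2
    simp only [Nat.xor_assoc]
    rw [Nat.xor_comm 8, ← Nat.xor_assoc (app (matQ Q) e)]
  rw [Fr.translate_move aA (Nat.xor_lt_two_pow (n := 11) (hlt _) he) him] at h1
  exact Bool.noConfusion ((cls (8, true) (by simp)).1 h1)

/-- The classes of the involutions outside the group: conjugates of the central one are the conjugates of the
section elements by the group. -/
theorem class_iff (hfus : Fr.Classes) {σ : ↥Cfsg.M24} (h2 : σ * σ = 1) (h1 : σ ≠ 1) {v : ℕ} (hv : v < 2048)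
    (hx : Fr.Av v * K.el σ * (Fr.Av v * K.el σ) = 1) :
    IsConj z (Fr.Av v * K.el σ) ↔ ∃ c ∈ Fr.A, Fr.Av v * K.el σ = c * K.el σ * c⁻¹ := by
  obtain ⟨k, hk, hcase⟩ := invol_conj σ.2 (congrArg Subtype.val h2) fun e => h1 (Subtype.ext e)
  let k' : ↥Cfsg.M24 := ⟨k, hk⟩
  set n := K.el k' with hn
  have hnN : n ∈ Subgroup.normalizer (Fr.A : Set G) := (K.κ k').2
  set x := Fr.Av v * K.el σ with hxdef
  obtain ⟨w, hw, ew⟩ := (Subgroup.mem_normalizer_iff.1 hnN _).1 (Fr.Av_mem hv)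
  have hconj : n * x * n⁻¹ = Fr.Av w * K.el (k' * σ * k'⁻¹) := by
    have hinv : K.el k'⁻¹ = n⁻¹ := eq_inv_of_mul_eq_one_left (by rw [hn, ← K.el_mul, inv_mul_cancel, K.el_one])
    rw [K.el_mul, K.el_mul, hinv, hxdef, ew, ← hn]; group
  have hstat : (∃ c ∈ Fr.A, x = c * K.el σ * c⁻¹) ↔
      ∃ c ∈ Fr.A, n * x * n⁻¹ = c * K.el (k' * σ * k'⁻¹) * c⁻¹ := by
    have hinv : K.el k'⁻¹ = n⁻¹ := eq_inv_of_mul_eq_one_left (by rw [hn, ← K.el_mul, inv_mul_cancel, K.el_one])
    rw [K.el_mul, K.el_mul, hinv, ← hn]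
    constructor
    · rintro ⟨c, hc, e⟩
      exact ⟨n * c * n⁻¹, (Subgroup.mem_normalizer_iff.1 hnN c).1 hc, by rw [e]; group⟩
    · rintro ⟨c, hc, e⟩
      refine ⟨n⁻¹ * c * n, ?_, ?_⟩
      · have := (Subgroup.mem_normalizer_iff.1 (inv_mem hnN) c).1 hc
        simpa using this
      · calc x = n⁻¹ * (n * x * n⁻¹) * n := by group
          _ = _ := by rw [e]; group
  have hz' : IsConj z x ↔ IsConj z (n * x * n⁻¹) :=
    ⟨fun h => h.trans (isConj_iff.2 ⟨n, rfl⟩), fun h => h.trans (isConj_iff.2 ⟨n⁻¹, by group⟩)⟩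
  rw [hstat, hz', hconj]
  have hinvol : Fr.Av w * K.el (k' * σ * k'⁻¹) * (Fr.Av w * K.el (k' * σ * k'⁻¹)) = 1 := by
    rw [← hconj, show n * x * n⁻¹ * (n * x * n⁻¹) = n * (x * x) * n⁻¹ by group, hx, mul_one, mul_inv_cancel]
  generalize hρ : k' * σ * k'⁻¹ = ρ at hinvol ⊢
  have hρσ : (ρ : Equiv.Perm GolayPt) = k * σ * k⁻¹ := by rw [← hρ]; rfl
  -- both representatives
  have rep : ∀ {u : G} {M : List ℕ}, Fr.Act u M → u * u = 1 →
      (∃ e < 2048, (imList M).contains e = true ∧ K.el ρ = Fr.Av e * u) → IsConj z u →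
      ((∀ a, a < 2048 → app M a = a → (imList M).contains a = false → ¬ IsConj z (Fr.Av a * u))) →
      ((imList M).all fun a => (imList M).all fun b => (imList M).contains (a ^^^ b)) = true →
      (IsConj z (Fr.Av w * K.el ρ) ↔ ∃ c ∈ Fr.A, Fr.Av w * K.el ρ = c * K.el ρ * c⁻¹) := by
    intro u M hM hu ⟨e, he, hein, ee⟩ hzu hother hcl
    have hwe := Nat.xor_lt_two_pow (n := 11) hw he
    have e1 : Fr.Av w * K.el ρ = Fr.Av (w ^^^ e) * u := by rw [ee, ← mul_assoc, Fr.Av_mul hw he]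
    have hsum : ∀ a b, (imList M).contains a = true → (imList M).contains b = true →
        (imList M).contains (a ^^^ b) = true := fun a b ha hb =>
      List.all_eq_true.1 (List.all_eq_true.1 hcl a (List.contains_iff_mem.1 ha)) b (List.contains_iff_mem.1 hb)
    obtain ⟨c0, hc0, ec0⟩ := mem_imList _ hein
    have hρc : K.el ρ = Fr.Av c0 * u * (Fr.Av c0)⁻¹ := by
      rw [ee, show Fr.Av c0 * u * (Fr.Av c0)⁻¹ = Fr.Av c0 * (Fr.Av 0 * u) * (Fr.Av c0)⁻¹ by
        rw [Fr.Av_zero, one_mul], Fr.coset_move hM (by norm_num) hc0, Nat.zero_xor, ec0]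
    have hzρ : IsConj z (K.el ρ) := hzu.trans (isConj_iff.2 ⟨Fr.Av c0, hρc.symm⟩)
    constructor
    · intro hz2
      by_cases hin : (imList M).contains (w ^^^ e) = true
      · obtain ⟨c1, hc1, ec1⟩ := mem_imList _ hin
        refine ⟨Fr.Av (c1 ^^^ c0), Fr.Av_mem (Nat.xor_lt_two_pow (n := 11) hc1 hc0), ?_⟩
        have hc01 := Nat.xor_lt_two_pow (n := 11) hc1 hc0
        rw [e1, hρc, show Fr.Av (c1 ^^^ c0) * (Fr.Av c0 * u * (Fr.Av c0)⁻¹) * (Fr.Av (c1 ^^^ c0))⁻¹ =
          Fr.Av (c1 ^^^ c0) * Fr.Av c0 * (Fr.Av 0 * u) * (Fr.Av (c1 ^^^ c0) * Fr.Av c0)⁻¹ by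
            rw [Fr.Av_zero, one_mul]; group, Fr.Av_mul hc01 hc0, Nat.xor_assoc, Nat.xor_self, Nat.xor_zero,
          Fr.coset_move hM (by norm_num) hc1, Nat.zero_xor, ec1]
      · rw [e1] at hz2
        refine absurd hz2 (hother _ hwe ?_ (by rwa [Bool.not_eq_true] at hin))
        exact Fr.coset_fixed hM hu hwe (by rw [← e1]; exact hinvol)
    · rintro ⟨c, -, ec⟩
      rw [ec]
      exact hzρ.trans (isConj_iff.2 ⟨c, rfl⟩)
  obtain ⟨⟨a2, aA, aE⟩, b2, bA, bE⟩ := Fr.u_spec
  obtain ⟨hr1, hr2⟩ := Fr.rep_u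
  rcases hcase with e | e
  · obtain ⟨hb, hoth⟩ := K.base_one hfus ρ (hρσ.trans e)
    refine rep aA a2 hb ?_ hoth (by decide +kernel)
    have := (Fr.translate_class hfus (by norm_num) aE hr1 (v := 0) (by norm_num) (p := [7, 4]) (b := false)
      (by simp [paths])).2 rfl
    rwa [Fr.Av_zero, one_mul] at this
  · refine rep bA b2 (K.base ρ (hρσ.trans e)) ?_ (fun a ha haf hain hz2 => ?_) (by decide +kernel)
    · have := (Fr.translate_class hfus (by norm_num) bE hr2 (v := 0) (by norm_num) (p := [4, 7, 4]) (b := false)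
        (by simp [paths])).2 rfl
      rwa [Fr.Av_zero, one_mul] at this
    · have h := List.all_eq_true.1 two_check.1 a (List.mem_range.2 ha)
      simp only [haf, beq_self_eq_true, Bool.not_true, Bool.false_or, hain] at h
      rw [Fr.translate_move bA ha h, Fr.translate_class hfus (by norm_num) bE hr2 (v := 4) (by norm_num)
        (p := [6, 4]) (b := true) (by simp [paths])] at hz2
      exact Bool.noConfusion hz2

end Kap

end Cfsg.Agent.Spor.JFour.Frame
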