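import Cfsg.Agent.Lib.Spor.JFourType.OrderT.CountDefs
import Cfsg.Agent.Lib.Spor.JFourType.OrderT.CenData1
import Cfsg.Agent.Lib.Spor.JFourType.OrderT.CenData2
import Cfsg.Agent.Lib.Spor.JFourType.OrderT.CenData3

/-!
The counts for the pairs of representatives.
-/

set_option autoImplicit false
set_option maxRecDepth 100000
set_option Elab.async false

namespace Cfsg.Agent.Spor.JFour.OrderT

open Cfsg.Agent.Spor.Golay

theorem count_one0 : countOk (invReps.getD 0 0) (invReps.getD 0 0) 1 231 = true := by decide +kernel

theorem count_one1 : countOk (invReps.getD 0 0) (invReps.getD 1 0) 2 12544 = true := by decide +kernel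

theorem count_one2 : countOk (invReps.getD 0 0) (invReps.getD 2 0) 2 0 = true := by decide +kernel

theorem count_one3 : countOk (invReps.getD 0 0) (invReps.getD 3 0) 2 0 = true := by decide +kernel

theorem count_cen1 : (cen1Rows.all fun r => countOk (invReps.getD 1 0) r.1 r.2.1 r.2.2) = true := by decide +kernel

theorem count_cen2 : (cen2Rows.all fun r => countOk (invReps.getD 2 0) r.1 r.2.1 r.2.2) = true := by decide +kernel

theorem count_cen3 : (cen3Rows.all fun r => countOk (invReps.getD 3 0) r.1 r.2.1 r.2.2) = true := by decide +kernel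

end Cfsg.Agent.Spor.JFour.OrderT
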