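import Cfsg.Agent.Lib.Spor.Golay.CensusClasses
import Cfsg.Agent.Lib.Spor.JFourType.Mathieu.Hom
import Cfsg.Agent.Lib.Spor.JFourType.OrderT.Moved
import Cfsg.Agent.Lib.Spor.JFourType.OrderT.InvData
import Cfsg.Agent.Lib.Spor.JFourType.OrderT.CenData1
import Cfsg.Agent.Lib.Spor.JFourType.OrderT.CenData2
import Cfsg.Agent.Lib.Spor.JFourType.OrderT.CenData3

/-!
The involutions of the stabiliser of a pair of points: four classes, and the orbits of each centraliser on them.
-/

set_option autoImplicit false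
set_option maxRecDepth 100000
set_option Elab.async false

namespace Cfsg.Agent.Spor.JFour.OrderT

open Cfsg Cfsg.Agent.Spor.Golay Cfsg.Agent.Spor.Golay.Census
open scoped Pointwise

/-- The classes. -/
def invOs : List Orb := [invOrb0, invOrb1, invOrb2, invOrb3]

/-- The four classes with their representatives. -/
def invClass (i : Fin 4) : Orb := invOs.getD i.val invOrb0

/-- The representative of a class. -/
def invRep (i : Fin 4) : ℕ := invReps.getD i.val 0

theorem invClass_ok : ∀ i : Fin 4, (invClass i).ok pairSG = true := by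
  intro i; fin_cases i
  exacts [invOrb0_ok, invOrb1_ok, invOrb2_ok, invOrb3_ok]

theorem invRep_ok : (allLt 4 fun i => repOk (invOs.getD i invOrb0) (invReps.getD i 0)) = true := by decide +kernel

theorem invRep_spec (i : Fin 4) : repOk (invClass i) (invRep i) = true := allLt_spec invRep_ok i i.2

/-- The invariant of a class: fixed points and whether the pair is moved. -/
def keyOf (i : ℕ) : ℕ × Bool :=
  (pop (fixMask (invReps.getD i 0)), (movedL (invReps.getD i 0)).contains 3)

theorem key_check : keyOf 0 = (24, false) ∧ keyOf 1 = (8, true) ∧ keyOf 2 = (8, false) ∧ keyOf 3 = (0, true) ∧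
    ((List.range 4).all fun i => (movedL (invReps.getD i 0)).all fun m => decide (m < 2 ^ 24)) = true := by
  decide +kernel

/-- The movers certify that every involution is in a class. -/
noncomputable def moverOk (e : ℕ × ℕ × ℕ × ℕ × ℕ × ℕ) : Bool :=
  match e with
  | (u, m, g, h, j, p) =>
    valid g && valid h && inM24 g && Nat.beq (comp g h) idP && Nat.beq (imgMask (Golay.get g) m) 3 &&
      Nat.blt j 4 && Nat.blt p (invOs.getD j invOrb0).n &&
      eqL ((invOs.getD j invOrb0).obj p)
        (srt (movedL (comp (comp g (if u = 0 then Mathieu.u1P else Mathieu.u2P)) h))) &&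
      Nat.beq (comp (comp (comp g (if u = 0 then Mathieu.u1P else Mathieu.u2P)) h)
        (comp (comp g (if u = 0 then Mathieu.u1P else Mathieu.u2P)) h)) idP

theorem movers_ok : (List.rec true (fun e _ r => moverOk e && r) invMovers : Bool) = true := by decide +kernel

/-- Every pair fixed by a standard involution has a mover. -/
theorem movers_complete : ([0, 1].all fun u => (List.range 24).all fun a => (List.range a).all fun b =>
    !(imgMask (Golay.get (if u = 0 then Mathieu.u1P else Mathieu.u2P)) (2 ^ a ||| 2 ^ b) == 2 ^ a ||| 2 ^ b) ||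
      invMovers.any fun e => e.1 == u && e.2.1 == 2 ^ a ||| 2 ^ b) = true := by
  decide +kernel

theorem all_of_rec {α : Type*} (f : α → Bool) : ∀ {L : List α},
    (List.rec true (fun e _ r => f e && r) L : Bool) = true → ∀ e ∈ L, f e = true
  | [], _, e, he => absurd he List.not_mem_nil
  | a :: L, h, e, he => by
    have h' : (f a && (List.rec true (fun e _ r => f e && r) L : Bool)) = true := h
    rw [Bool.and_eq_true] at h'
    rcases List.mem_cons.1 he with rfl | he
    · exact h'.1
    · exact all_of_rec f h'.2 e he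

theorem pairD_card : pairD.card = 2 := by rw [pairD, card_pts]; decide +kernel

/-- Every involution lies in a class. -/
theorem inv_cover {σ : Equiv.Perm GolayPt} (hσ : σ ∈ invSet) : ∃ i, moved σ ∈ (invClass i).famSet := by
  classical
  obtain ⟨hm, h2, hp⟩ := mem_invSet.1 hσ
  by_cases h1 : σ = 1
  · refine ⟨0, ?_⟩
    have hobj : (invOrb0.obj 0) = [] := eqL_spec (by decide +kernel)
    refine ⟨invOrb0.obj 0, List.mem_map.mpr ⟨0, List.mem_range.mpr (lt_of_blt (by decide +kernel)), rfl⟩, ?_⟩
    rw [hobj, h1]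
    simp [fam, moved]
  obtain ⟨k, hk, hcase⟩ := Mathieu.invol_conj hm h2 h1
  obtain ⟨u, hu, eu⟩ : ∃ u, (u = 0 ∨ u = 1) ∧
      k * σ * k⁻¹ = permOf (if u = 0 then Mathieu.u1P else Mathieu.u2P) := by
    rcases hcase with e | e
    · exact ⟨0, Or.inl rfl, by rw [if_pos rfl]; exact e⟩
    · exact ⟨1, Or.inr rfl, by rw [if_neg one_ne_zero]; exact e⟩
  set Q := (if u = 0 then Mathieu.u1P else Mathieu.u2P) with hQdef
  have hQv : valid Q = true := by
    rcases hu with rfl | rfl <;> rw [hQdef] <;> simp only [if_pos, if_neg one_ne_zero] <;> decide +kernel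
  -- the image of the pair
  have hfix : permOf Q • (k • pairD) = k • pairD := by
    rw [← eu, mul_smul, mul_smul, inv_smul_smul, hp]
  obtain ⟨p, q, hne, epq⟩ := Finset.card_eq_two.1 (show (k • pairD).card = 2 by
    rw [Finset.card_smul_finset, pairD_card])
  obtain ⟨a, b, ha, hb, hab⟩ : ∃ a b, a < 24 ∧ b < a ∧ k • pairD = {pt a, pt b} := by
    rcases Nat.lt_or_gt_of_ne (fun e => hne (idx_injective e)) with h | h
    · exact ⟨idx q, idx p, idx_lt q, h, by rw [pt_idx, pt_idx, epq, Finset.pair_comm]⟩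
    · exact ⟨idx p, idx q, idx_lt p, h, by rw [pt_idx, pt_idx, epq]⟩
  have hm' : pts (2 ^ a ||| 2 ^ b) = k • pairD := by rw [hab, pts_pair ha (hb.trans ha)]
  have hlt : (2 ^ a ||| 2 ^ b) < 2 ^ 24 :=
    Nat.or_lt_two_pow (Nat.pow_lt_pow_right (by norm_num) ha) (Nat.pow_lt_pow_right (by norm_num) (hb.trans ha))
  have himg : imgMask (Golay.get Q) (2 ^ a ||| 2 ^ b) = 2 ^ a ||| 2 ^ b := by
    have hl : imgMask (Golay.get Q) (2 ^ a ||| 2 ^ b) < 2 ^ 24 := Nat.lt_pow_two_of_testBit _ fun j hj => by
      by_contra hc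
      rw [Bool.not_eq_false] at hc
      obtain ⟨i, hi, -, e⟩ := (testBit_imgMask _ _ _).1 hc
      have := (valid_iff.mp hQv).2 i hi
      omega
    refine pts_injOn hl hlt ?_
    have := fam_img hQv [2 ^ a ||| 2 ^ b]
    simp only [fam, img, List.map_cons, List.map_nil, srt, List.foldr_cons, List.foldr_nil, ins, List.toFinset_cons,
      List.toFinset_nil, Finset.smul_finset_singleton, insert_empty_eq, Finset.singleton_inj] at this
    rw [this, hm', hfix]
  have hc := List.all_eq_true.1 (List.all_eq_true.1 (List.all_eq_true.1 movers_complete u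
    (by rcases hu with rfl | rfl <;> simp)) a (List.mem_range.2 ha)) b (List.mem_range.2 hb)
  simp only [← hQdef, himg, beq_self_eq_true, Bool.not_true, Bool.false_or, List.any_eq_true, Bool.and_eq_true,
    beq_iff_eq] at hc
  obtain ⟨⟨u', m, g, h, j, pos⟩, hmem, rfl, rfl⟩ := hc
  have ho := all_of_rec moverOk movers_ok _ hmem
  simp only [moverOk, ← hQdef, Bool.and_eq_true] at ho
  obtain ⟨⟨⟨⟨⟨⟨⟨⟨hgv, hhv⟩, hgm⟩, hgh⟩, hg3⟩, hj⟩, hpos⟩, hobj⟩, hinv⟩ := ho
  have hgh' : permOf h = (permOf g)⁻¹ := by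
    refine eq_inv_of_mul_eq_one_right ?_
    rw [← permOf_comp hgv hhv, Nat.eq_of_beq_eq_true hgh, permOf_idP]
  have hg3' : permOf g • (k • pairD) = pairD := by
    have := fam_img hgv [2 ^ a ||| 2 ^ b]
    simp only [fam, img, List.map_cons, List.map_nil, srt, List.foldr_cons, List.foldr_nil, ins,
      List.toFinset_cons, List.toFinset_nil, Finset.smul_finset_singleton, insert_empty_eq,
      Finset.singleton_inj] at this
    rw [← hm', ← this, Nat.eq_of_beq_eq_true hg3]
    rfl
  set x := permOf g * k with hx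
  have hxF : x ∈ Fx [[3]] := mem_Fx_pair.2 ⟨mul_mem (permOf_mem_M24 hgm) hk, by rw [hx, mul_smul]; exact hg3'⟩
  set j' : Fin 4 := ⟨j, lt_of_blt hj⟩
  refine ⟨j', ?_⟩
  have hvc := valid_comp (valid_comp hgv hQv) hhv
  have hmem' : moved (x * σ * x⁻¹) ∈ (invClass j').famSet := by
    refine ⟨_, List.mem_map.mpr ⟨pos, List.mem_range.mpr (lt_of_blt hpos), rfl⟩, ?_⟩
    show fam ((invOs.getD j invOrb0).obj pos) = _
    rw [eqL_spec hobj, show x * σ * x⁻¹ = permOf (comp (comp g Q) h) by
      rw [permOf_comp (valid_comp hgv hQv) hhv, permOf_comp hgv hQv, hgh', ← eu, hx]; group,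
      ← fam_movedL hvc (Nat.eq_of_beq_eq_true hinv)]
    ext s
    simp [fam, mem_srt]
  have := stagePair.smul_famSet (invClass_ok j') (inv_mem hxF) hmem'
  rwa [smul_moved, show x⁻¹ * (x * σ * x⁻¹) * x⁻¹⁻¹ = σ by group] at this

/-- The invariant of an involution. -/
noncomputable def keyP (σ : Equiv.Perm GolayPt) : ℕ × Bool :=
  ((Finset.univ.filter fun p => σ p = p).card, decide (pairD ∈ moved σ))

theorem key_orbit {i : Fin 4} {τ : Equiv.Perm GolayPt} (hτ : τ ∈ orbSet (invClass i)) : keyP τ = keyOf i := by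
  obtain ⟨g, hg, rfl⟩ := (orb_spec stagePair le_rfl (invClass_ok i) (invRep_spec i)).2 τ hτ
  have hr := invRep_spec i
  simp only [repOk, Bool.and_eq_true] at hr
  obtain ⟨⟨⟨⟨hv, -⟩, h2⟩, -⟩, -⟩ := hr
  refine Prod.ext ?_ ?_
  · show (Finset.univ.filter fun p => (g * permOf (invRep i) * g⁻¹) p = p).card = _
    rw [fix_card_conj, fix_card hv]; rfl
  · show decide (pairD ∈ moved (g * permOf (invRep i) * g⁻¹)) = (movedL (invRep i)).contains 3
    rw [← smul_moved, Bool.eq_iff_iff, decide_eq_true_eq, List.contains_iff_mem,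
      ← fam_movedL hv (Nat.eq_of_beq_eq_true h2)]
    conv_lhs => rw [show pairD = g • pairD from ((mem_Fx_pair.1 hg).2).symm, Finset.smul_mem_smul_finset_iff]
    simp only [fam, List.mem_toFinset, List.mem_map]
    refine ⟨fun ⟨m, hm, e⟩ => ?_, fun h => ⟨3, h, rfl⟩⟩
    have hlt := List.all_eq_true.1 (List.all_eq_true.1 key_check.2.2.2.2 i (List.mem_range.2 i.2)) m hm
    rw [decide_eq_true_eq] at hlt
    rwa [pts_injOn hlt (by norm_num) e] at hm

theorem key_inj : ∀ i j : Fin 4, keyOf i = keyOf j → i = j := by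
  obtain ⟨k0, k1, k2, k3, -⟩ := key_check
  intro i j h
  fin_cases i <;> fin_cases j <;> simp [k0, k1, k2, k3] at h ⊢

theorem class_sizes : (List.range 4).map (fun i => (invOs.getD i invOrb0).n) = [1, 330, 1155, 1386] := by
  decide +kernel

theorem card_invSet : invSet.card = 2872 := by
  classical
  have hU : invSet = Finset.univ.biUnion fun i : Fin 4 => orbSet (invClass i) := by
    ext σ
    simp only [Finset.mem_biUnion, Finset.mem_univ, true_and, mem_orbSet]
    exact ⟨fun h => (inv_cover h).imp fun i hi => ⟨h, hi⟩, fun ⟨i, h, _⟩ => h⟩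
  rw [hU, Finset.card_biUnion fun i _ j _ hij => Finset.disjoint_left.2 fun τ h1 h2 =>
    hij (key_inj i j ((key_orbit h1).symm.trans (key_orbit h2)))]
  rw [Finset.sum_congr rfl fun i _ => (orb_spec stagePair le_rfl (invClass_ok i) (invRep_spec i)).1]
  have h := class_sizes
  simp only [List.range_succ, List.range_zero, List.map_append, List.map_cons, List.map_nil, List.nil_append,
    List.cons_append, List.cons.injEq, and_true] at h
  obtain ⟨h0, h1, h2, h3⟩ := h
  rw [Fin.sum_univ_four]
  show invOrb0.n + invOrb1.n + invOrb2.n + invOrb3.n = 2872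
  have e0 : invOrb0.n = 1 := h0
  have e1 : invOrb1.n = 330 := h1
  have e2 : invOrb2.n = 1155 := h2
  have e3 : invOrb3.n = 1386 := h3
  rw [e0, e1, e2, e3]

/-- A sum over the involutions by the classes. -/
theorem sum_classes (d : Equiv.Perm GolayPt → ℕ)
    (hd : ∀ g ∈ Fx [[3]], ∀ τ ∈ invSet, d (g * τ * g⁻¹) = d τ) :
    ∑ τ ∈ invSet, d τ = d (permOf (invRep 0)) + 330 * d (permOf (invRep 1)) + 1155 * d (permOf (invRep 2)) +
      1386 * d (permOf (invRep 3)) := by
  have h := class_sizes
  simp only [List.range_succ, List.range_zero, List.map_append, List.map_cons, List.map_nil, List.nil_append,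
    List.cons_append, List.cons.injEq, and_true] at h
  obtain ⟨h0, h1, h2, h3⟩ := h
  rw [sum_orbits stagePair le_rfl invClass invRep invClass_ok invRep_spec (fun τ hτ => inv_cover hτ) ?_ d hd,
    Fin.sum_univ_four]
  · show invOrb0.n * _ + invOrb1.n * _ + invOrb2.n * _ + invOrb3.n * _ = _
    rw [show invOrb0.n = 1 from h0, show invOrb1.n = 330 from h1, show invOrb2.n = 1155 from h2,
      show invOrb3.n = 1386 from h3, one_mul]
  · rw [card_invSet, Fin.sum_univ_four]
    show invOrb0.n + invOrb1.n + invOrb2.n + invOrb3.n = 2872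
    rw [show invOrb0.n = 1 from h0, show invOrb1.n = 330 from h1, show invOrb2.n = 1155 from h2,
      show invOrb3.n = 1386 from h3]

/-- The data of a centraliser: orbits, representatives and positions. -/
noncomputable def cenOk (gens : List ℕ) (Os : List Orb) (Qs Pos : List ℕ) : Bool :=
  Nat.beq Os.length Qs.length && Nat.beq (Os.map fun O => O.n).sum 2872 &&
    (allLt Os.length fun i => repOk (Os.getD i invOrb0) (Qs.getD i 0)) &&
    allLt 4 fun j => (fun U P => allLt U.n fun i =>
      (fun x => Nat.blt (Nat.div x 65536) Os.length &&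
        (fun O => Nat.blt (Nat.mod x 65536) O.n && eqL (O.obj (Nat.mod x 65536)) (U.obj i))
          (Os.getD (Nat.div x 65536) invOrb0)) (at' 32 P i)) (invOs.getD j invOrb0) (Pos.getD j 0)

/-- A sum over the involutions by the orbits of a centraliser. -/
theorem sum_centraliser {F : List (List ℕ)} {gens : List ℕ} {n : ℕ} (hS : Stage F gens n) (hF : Fx F ≤ Fx [[3]])
    {Os : List Orb} {Qs Pos : List ℕ} (hok : ∀ O ∈ Os, O.ok gens = true) (hc : cenOk gens Os Qs Pos = true)
    (d : Equiv.Perm GolayPt → ℕ) (hd : ∀ g ∈ Fx F, ∀ τ ∈ invSet, d (g * τ * g⁻¹) = d τ) :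
    ∑ τ ∈ invSet, d τ = ((Os.zip Qs).map fun e => e.1.n * d (permOf e.2)).sum := by
  simp only [cenOk, Bool.and_eq_true] at hc
  obtain ⟨⟨⟨hlen, htot⟩, hrep⟩, hpos⟩ := hc
  have hlen' : Os.length = Qs.length := Nat.eq_of_beq_eq_true hlen
  have hget : ∀ i : Fin Os.length, Os.getD i invOrb0 = Os[i.val] := fun i => List.getD_eq_getElem _ _ i.2
  rw [sum_orbits hS hF (fun i : Fin Os.length => Os.getD i invOrb0) (fun i => Qs.getD i 0)
    (fun i => hok _ (by rw [hget]; exact List.getElem_mem _)) (fun i => allLt_spec hrep i i.2) (fun τ hτ => ?_) ?_ d hd]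
  · rw [← List.sum_ofFn]
    congr 1
    refine List.ext_getElem (by simp [hlen']) fun i h1 h2 => ?_
    rw [List.length_ofFn] at h1
    have h3 : i < Qs.length := hlen' ▸ h1
    simp [List.getElem_zip, List.getElem?_eq_getElem, h1, h3]
  · rw [card_invSet, ← List.sum_ofFn, ← Nat.eq_of_beq_eq_true htot]
    congr 1
    refine List.ext_getElem (by simp) fun i h1 h2 => ?_
    rw [List.length_ofFn] at h1
    simp [List.getD_eq_getElem _ _ h1]
  · obtain ⟨j, L, hL, eL⟩ := inv_cover hτ
    obtain ⟨i, hi, rfl⟩ := List.mem_map.mp hL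
    have h1 := allLt_spec (allLt_spec hpos j j.2) i (List.mem_range.mp hi)
    simp only [Bool.and_eq_true] at h1
    obtain ⟨hb, hp, he⟩ := h1
    exact ⟨⟨_, lt_of_blt hb⟩, _, List.mem_map.mpr ⟨_, List.mem_range.mpr (lt_of_blt hp), rfl⟩,
      by rw [eqL_spec he]; exact eL⟩

theorem fx_cen_le (L : List ℕ) : Fx (L :: [[3]]) ≤ Fx [[3]] := fun g hg =>
  mem_Fx.mpr ⟨(mem_Fx.mp hg).1, fun X hX => (mem_Fx.mp hg).2 X (List.mem_cons_of_mem _ hX)⟩

end Cfsg.Agent.Spor.JFour.OrderT
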