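import Cfsg.Agent.S3313
import Cfsg.Agent.Lib.Spor.JFourType.OrderT.Complement
import Cfsg.Agent.Lib.Spor.JFourType.OrderT.Enum
import Cfsg.Agent.Lib.Spor.JFourType.OrderT.CountData

/-!
The number of pairs of involutions from the two classes whose product has the involution of the second class as a
power.
-/

set_option autoImplicit false
set_option maxRecDepth 100000
set_option linter.style.haveILetI false

open Cfsg Cfsg.Agent.Spor.Golay
open Cfsg.Agent.Spor.Cos.J4Sub (app mm app_xor app_zero app_mm app_lt)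
open scoped Pointwise

namespace Cfsg.Agent.Spor.JFour.Frame

open Mathieu OrderT

variable {G : Type*} [Group G] {z : G} {P : Subgroup G} {S : Setting z P} (Fr : Frame S) [Finite G]

theorem Av_sq {v : ℕ} (hv : v < 2048) : Fr.Av v * Fr.Av v = 1 := Fr.A_sq _ (Fr.Av_mem hv)

theorem two_mask : tMask.testBit 2 = true ∧ cN 0 ^^^ cN 1 = 2 := by decide +kernel

theorem not_conj_two (hfus : Fr.Classes) : ¬ IsConj z (Fr.Av 2) := fun h => by
  have := ((hfus 2 (by norm_num)).1 (isConj_iff.1 h)).2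
  rw [two_mask.1] at this
  exact Bool.noConfusion this

theorem two_ne_one : Fr.Av 2 ≠ 1 := fun h => by
  rw [← Fr.Av_zero] at h
  exact absurd (Fr.Av_inj (by norm_num) (by norm_num) h) (by norm_num)

theorem orderOf_two : orderOf (Fr.Av 2) = 2 :=
  orderOf_eq_prime (by rw [pow_two]; exact Fr.Av_sq (by norm_num)) Fr.two_ne_one

/-- All classes of duads are conjugate. -/
theorem duad_conj (D : Fr.Duadic) {v : ℕ} (hv : v < 2048) (hT : tMask.testBit v = true) :
    IsConj (Fr.Av 2) (Fr.Av v) := by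
  obtain ⟨a, b, hab, hval⟩ := mask_duad hv hT
  obtain ⟨f, -, hsurj, hf⟩ := Fr.exists_toM24 D
  have h12 : pt 0 ≠ pt 1 := by decide +kernel
  haveI := M24_pretransitive (n := 2) (by norm_num)
  obtain ⟨k, hk1, hk2⟩ := MulAction.is_two_pretransitive_iff.mp ‹_› h12 hab
  obtain ⟨n, hn⟩ := hsurj k
  obtain ⟨w, hw, ew⟩ := (Subgroup.mem_normalizer_iff.1 n.2 _).1 (Fr.Av_mem (v := 2) (by norm_num))
  have hwv : w = v := by
    refine vb_inj hw hv ?_
    have h1 := hf n (pt 0) (pt 1) h12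
    rw [← duad_eq, idx_pt (by norm_num), idx_pt (by norm_num), two_mask.2,
      Fr.actV_vb n (by norm_num) hw ew.symm, hn] at h1
    rw [h1, ← hval, duad_eq, show (k : Equiv.Perm GolayPt) (pt 0) = a from hk1,
      show (k : Equiv.Perm GolayPt) (pt 1) = b from hk2]
  exact isConj_iff.2 ⟨n, by rw [← ew, hwv]⟩

/-- The involutions of the normaliser. -/
theorem invol_class (D : Fr.Duadic) (hfus : Fr.Classes) {x : G}
    (hx : x ∈ Subgroup.normalizer (Fr.A : Set G)) (h2 : x * x = 1) (h1 : x ≠ 1) :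
    IsConj x z ∨ IsConj x (Fr.Av 2) := by
  obtain ⟨g, hg⟩ := Fr.invol_into D hx h2
  obtain ⟨v, hv, hve⟩ := hg
  have hc : IsConj x (Fr.Av v) := isConj_iff.2 ⟨g, hve.symm⟩
  by_cases hT : tMask.testBit v = true
  · exact Or.inr (hc.trans (Fr.duad_conj D hv hT).symm)
  · rw [Bool.not_eq_true] at hT
    refine Or.inl (hc.trans (isConj_iff.2 ((hfus v hv).2 ⟨?_, hT⟩)).symm)
    rintro rfl
    rw [Fr.Av_zero] at hc
    exact h1 (isConj_one_right.1 hc.symm)

/-- The Sylow subgroup of the centraliser normalises the group. -/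
theorem sylowT_le_normalizer : Fr.F.T ≤ Subgroup.normalizer (Fr.A : Set G) := by
  intro s hs
  refine Fr.normalizer_of_conj_le fun a ha => ?_
  have hA : Fr.A.map (MulAut.conj s).toMonoidHom = Fr.A := by
    refine Fr.unique_in_T ?_ ?_ ?_ ?_
    · rintro _ ⟨b, hb, rfl⟩
      exact mul_mem (mul_mem hs (Fr.A_le_T hb)) (inv_mem hs)
    · rintro _ ⟨b, hb, rfl⟩ _ ⟨c, hc, rfl⟩
      rw [← map_mul, ← map_mul, Fr.A_comm b hb c hc]
    · rintro _ ⟨b, hb, rfl⟩
      rw [← map_mul, Fr.A_sq b hb, map_one]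
    · rw [Subgroup.card_map_of_injective (MulAut.conj s).injective, Fr.card_A]
  exact Subgroup.le_normalizer (hA ▸ Subgroup.mem_map.2 ⟨a, ha, rfl⟩)

/-- Two classes of involutions. -/
theorem two_classes (D : Fr.Duadic) (hfus : Fr.Classes) (x : G) (hx : orderOf x = 2) :
    IsConj x z ∨ IsConj x (Fr.Av 2) := by
  haveI : Fact (Nat.Prime 2) := ⟨Nat.prime_two⟩
  obtain ⟨T', hT'⟩ := (IsPGroup.of_card (p := 2) (n := 1) (by rw [Nat.card_zpowers, hx, pow_one]) :
    IsPGroup 2 ↥(Subgroup.zpowers x)).exists_le_sylow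
  obtain ⟨g, hg⟩ := MulAction.exists_smul_eq G T' Fr.F.sylowT
  have hxx : x * x = 1 := by rw [← pow_two, ← hx, pow_orderOf_eq_one]
  have hN : g * x * g⁻¹ ∈ Subgroup.normalizer (Fr.A : Set G) := by
    refine Fr.sylowT_le_normalizer ?_
    have h := congrArg (fun s : Sylow 2 G => (s : Subgroup G)) hg
    rw [Sylow.coe_subgroup_smul] at h
    have hmem := Subgroup.mem_map_of_mem (MulAut.conj g).toMonoidHom (hT' (Subgroup.mem_zpowers x))
    have : g * x * g⁻¹ ∈ (T' : Subgroup G).map (MulAut.conj g).toMonoidHom := hmem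
    have e : (T' : Subgroup G).map (MulAut.conj g).toMonoidHom = Fr.F.T := h
    exact e ▸ this
  have hc : IsConj x (g * x * g⁻¹) := isConj_iff.2 ⟨g, rfl⟩
  have h1 : g * x * g⁻¹ ≠ 1 := fun e => by
    rw [conj_eq_one_iff] at e
    rw [e, orderOf_one] at hx
    omega
  rcases Fr.invol_class D hfus hN
    (by rw [show g * x * g⁻¹ * (g * x * g⁻¹) = g * (x * x) * g⁻¹ by group, hxx]; group) h1 with h | h
  · exact Or.inl (hc.trans h)
  · exact Or.inr (hc.trans h)

namespace Kap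

variable {Fr} (K : Fr.Kap)

/-- Commuting with the chosen element. -/
theorem fix_iff {x : G} (hx : x ∈ Subgroup.normalizer (Fr.A : Set G)) :
    x * Fr.Av 2 = Fr.Av 2 * x ↔ (K.f ⟨x, hx⟩ : Equiv.Perm GolayPt) • pairD = pairD := by
  have h := Fr.fixes_iff K.hf ⟨x, hx⟩ (a := pt 0) (b := pt 1) (by decide +kernel)
  rw [idx_pt (by norm_num), idx_pt (by norm_num), two_mask.2] at h
  have hd : pairD = ({pt 0, pt 1} : Finset GolayPt) := by
    rw [pairD, show (3 : ℕ) = 2 ^ 0 ||| 2 ^ 1 by rfl, OrderT.pts_pair (by norm_num) (by norm_num)]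
  rw [hd]
  exact h

/-- The condition on a pair. -/
def Good (p : G × G) : Prop :=
  IsConj z p.1 ∧ IsConj (Fr.Av 2) p.2 ∧ S3313.vinv p = Fr.Av 2

/-- The pairs with given images. -/
def Fib (σ τ : Equiv.Perm GolayPt) (p : G × G) : Prop :=
  Good (Fr := Fr) p ∧ ∃ h1 : p.1 ∈ Subgroup.normalizer (Fr.A : Set G), ∃ h2 : p.2 ∈ Subgroup.normalizer (Fr.A : Set G),
    (K.f ⟨p.1, h1⟩ : Equiv.Perm GolayPt) = σ ∧ (K.f ⟨p.2, h2⟩ : Equiv.Perm GolayPt) = τ

/-- Their number. -/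
noncomputable def cCount (σ τ : Equiv.Perm GolayPt) : ℕ := Nat.card {p : G × G // K.Fib σ τ p}

/-- Members of good pairs lie in the normaliser and their images fix the pair. -/
theorem good_spec (D : Fr.Duadic) (hfus : Fr.Classes) {p : G × G} (hp : Good (Fr := Fr) p) :
    ∃ h1 : p.1 ∈ Subgroup.normalizer (Fr.A : Set G), ∃ h2 : p.2 ∈ Subgroup.normalizer (Fr.A : Set G),
      (K.f ⟨p.1, h1⟩ : Equiv.Perm GolayPt) ∈ invSet ∧ (K.f ⟨p.2, h2⟩ : Equiv.Perm GolayPt) ∈ invSet := by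
  obtain ⟨hu, hv, hw⟩ := hp
  have hu2 : p.1 * p.1 = 1 := by
    obtain ⟨g, e⟩ := isConj_iff.1 hu
    rw [← e, show g * z * g⁻¹ * (g * z * g⁻¹) = g * (z * z) * g⁻¹ by group, S.ext.zz, mul_one, mul_inv_cancel]
  have hv2 : p.2 * p.2 = 1 := by
    obtain ⟨g, e⟩ := isConj_iff.1 hv
    rw [← e, show g * Fr.Av 2 * g⁻¹ * (g * Fr.Av 2 * g⁻¹) = g * (Fr.Av 2 * Fr.Av 2) * g⁻¹ by group,
      Fr.Av_sq (by norm_num), mul_one, mul_inv_cancel]
  have hti : (Fr.Av 2)⁻¹ = Fr.Av 2 := Fr.Av_inv (by norm_num)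
  have key : ∀ x : G, x * x = 1 → x * (p.1 * p.2) * x⁻¹ = (p.1 * p.2)⁻¹ → x * Fr.Av 2 = Fr.Av 2 * x := by
    intro x hx e
    refine mul_inv_eq_iff_eq_mul.1 ?_
    rw [← hw, S3313.vinv, ← conj_pow, e, inv_pow, show (p.1 * p.2) ^ (orderOf (p.1 * p.2) / 2) = Fr.Av 2 from hw, hti]
  have c1 := key p.1 hu2 (S3313.conj_involution_product _ _ hu2 hv2)
  have c2 := key p.2 hv2 (by
    rw [mul_inv_rev, inv_eq_of_mul_eq_one_right hu2, inv_eq_of_mul_eq_one_right hv2]
    calc p.2 * (p.1 * p.2) * p.2 = p.2 * p.1 * (p.2 * p.2) := by group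
      _ = _ := by rw [hv2, mul_one])
  have hN : ∀ {x : G}, x * Fr.Av 2 = Fr.Av 2 * x → x ∈ Subgroup.normalizer (Fr.A : Set G) := fun {x} h =>
    Fr.centralizer_le_normalizer D hfus (by norm_num) two_mask.1 (Subgroup.mem_centralizer_singleton_iff.2 h)
  have hI : ∀ {x : G} (hx : x ∈ Subgroup.normalizer (Fr.A : Set G)), x * x = 1 → x * Fr.Av 2 = Fr.Av 2 * x →
      (K.f ⟨x, hx⟩ : Equiv.Perm GolayPt) ∈ invSet := fun {x} hx h2 hc =>
    mem_invSet.2 ⟨(K.f ⟨x, hx⟩).2, by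
      rw [← Subgroup.coe_mul, ← map_mul, show (⟨x, hx⟩ : ↥(Subgroup.normalizer (Fr.A : Set G))) * ⟨x, hx⟩ = 1 from
        Subtype.ext h2, map_one]; rfl, (K.fix_iff hx).1 hc⟩
  exact ⟨hN c1, hN c2, hI _ hu2 c1, hI _ hv2 c2⟩

/-- The count as a sum over pairs of images. -/
theorem aCount_sum (D : Fr.Duadic) (hfus : Fr.Classes) :
    S3313.aCount z (Fr.Av 2) (Fr.Av 2) = ∑ σ ∈ invSet, ∑ τ ∈ invSet, K.cCount σ τ := by
  classical
  haveI := Fintype.ofFinite G
  have hc : ∀ σ τ, K.cCount σ τ = (Finset.univ.filter fun p : G × G => K.Fib σ τ p).card := fun σ τ => by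
    rw [cCount, Nat.card_eq_fintype_card, Fintype.card_subtype]
  have hU : (Finset.univ.filter fun p : G × G => Good (Fr := Fr) p) =
      (invSet ×ˢ invSet).biUnion fun q => Finset.univ.filter fun p : G × G => K.Fib q.1 q.2 p := by
    ext p
    simp only [Finset.mem_filter, Finset.mem_univ, true_and, Finset.mem_biUnion, Finset.mem_product]
    constructor
    · intro hp
      obtain ⟨h1, h2, i1, i2⟩ := K.good_spec D hfus hp
      exact ⟨(_, _), ⟨i1, i2⟩, hp, h1, h2, rfl, rfl⟩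
    · rintro ⟨q, -, hp, -⟩
      exact hp
  rw [Finset.sum_congr rfl fun σ _ => Finset.sum_congr rfl fun τ _ => hc σ τ, ← Finset.sum_product',
    ← Finset.card_biUnion, ← hU, S3313.aCount, Nat.card_eq_fintype_card, Fintype.card_subtype]
  · congr 1
    ext p
    simp [Good]
  · rintro ⟨a, b⟩ - ⟨a', b'⟩ - hne
    refine Finset.disjoint_left.2 fun p h1 h2 => hne ?_
    simp only [Finset.mem_filter, Finset.mem_univ, true_and] at h1 h2
    obtain ⟨-, _, _, e1, e2⟩ := h1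
    obtain ⟨-, _, _, e3, e4⟩ := h2
    exact Prod.ext (e1.symm.trans e3) (e2.symm.trans e4)

/-- Invariance under the stabiliser. -/
theorem cCount_conj {g σ τ : Equiv.Perm GolayPt} (hg : g ∈ Census.Fx [[3]]) :
    K.cCount (g * σ * g⁻¹) (g * τ * g⁻¹) = K.cCount σ τ := by
  obtain ⟨hgm, hgp⟩ := mem_Fx_pair.1 hg
  set n : ↥(Subgroup.normalizer (Fr.A : Set G)) := K.κ ⟨g, hgm⟩ with hn
  have hfn : (K.f n : Equiv.Perm GolayPt) = g := by rw [hn, K.sect]
  have hnt : (n : G) * Fr.Av 2 = Fr.Av 2 * n := (K.fix_iff n.2).2 (by rw [hfn]; exact hgp)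
  have hfix : (n : G) * Fr.Av 2 * (n : G)⁻¹ = Fr.Av 2 := by rw [hnt, mul_inv_cancel_right]
  refine (Nat.card_congr (Equiv.subtypeEquiv
    (Equiv.prodCongr (MulAut.conj (n : G)).toEquiv (MulAut.conj (n : G)).toEquiv) fun p => ?_)).symm
  show K.Fib σ τ p ↔ K.Fib _ _ ((n : G) * p.1 * (n : G)⁻¹, (n : G) * p.2 * (n : G)⁻¹)
  have hmem : ∀ x : G, x ∈ Subgroup.normalizer (Fr.A : Set G) ↔
      (n : G) * x * (n : G)⁻¹ ∈ Subgroup.normalizer (Fr.A : Set G) := fun x =>
    ⟨fun h => mul_mem (mul_mem n.2 h) (inv_mem n.2), fun h => by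
      have := mul_mem (mul_mem (inv_mem n.2) h) n.2
      simpa [mul_assoc] using this⟩
  have hf : ∀ (x : G) (h : x ∈ Subgroup.normalizer (Fr.A : Set G)),
      (K.f ⟨_, (hmem x).1 h⟩ : Equiv.Perm GolayPt) = g * (K.f ⟨x, h⟩ : Equiv.Perm GolayPt) * g⁻¹ := fun x h => by
    have e : (⟨_, (hmem x).1 h⟩ : ↥(Subgroup.normalizer (Fr.A : Set G))) = n * ⟨x, h⟩ * n⁻¹ := Subtype.ext rfl
    rw [e, map_mul, map_mul, map_inv, Subgroup.coe_mul, Subgroup.coe_mul, Subgroup.coe_inv, hfn]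
  have hcj : ∀ a x : G, IsConj a ((n : G) * x * (n : G)⁻¹) ↔ IsConj a x := fun a x =>
    ⟨fun h => h.trans (isConj_iff.2 ⟨(n : G), rfl⟩ : IsConj x ((n : G) * x * (n : G)⁻¹)).symm,
      fun h => h.trans (isConj_iff.2 ⟨(n : G), rfl⟩ : IsConj x ((n : G) * x * (n : G)⁻¹))⟩
  have hgood : Good (Fr := Fr) ((n : G) * p.1 * (n : G)⁻¹, (n : G) * p.2 * (n : G)⁻¹) ↔ Good (Fr := Fr) p := by
    unfold Good
    rw [hcj, hcj, S3313.vinv_conj]
    refine and_congr_right fun _ => and_congr_right fun _ => ⟨fun e => ?_, fun e => by rw [e, hfix]⟩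
    rw [← hfix] at e
    exact mul_left_cancel (mul_right_cancel e)
  refine and_congr hgood.symm ?_
  constructor
  · rintro ⟨h1, h2, e1, e2⟩
    exact ⟨(hmem _).1 h1, (hmem _).1 h2, by rw [hf _ h1, e1], by rw [hf _ h2, e2]⟩
  · rintro ⟨h1, h2, e1, e2⟩
    refine ⟨(hmem _).2 h1, (hmem _).2 h2, ?_, ?_⟩
    · exact mul_left_cancel (mul_right_cancel ((hf _ ((hmem _).2 h1)).symm.trans e1))
    · exact mul_left_cancel (mul_right_cancel ((hf _ ((hmem _).2 h2)).symm.trans e2))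

/-- A power of a translate. -/
theorem translate_pow {ρ : ↥Cfsg.M24} {R : List ℕ} (hR : Fr.Act (K.el ρ) R) {c : ℕ} (hc : c < 2048) :
    ∀ i, orbSum R i c < 2048 ∧ (Fr.Av c * K.el ρ) ^ i = Fr.Av (orbSum R i c) * K.el (ρ ^ i) := by
  have comm : ∀ i v, app R (orbSum R i v) = orbSum R i (app R v) := by
    intro i
    induction i with
    | zero => intro v; simp [orbSum, app_zero]
    | succ i ih => intro v; simp only [orbSum, app_xor, ih]
  intro i
  induction i with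
  | zero => exact ⟨by simp [orbSum], by rw [pow_zero, pow_zero, orbSum, Fr.Av_zero, K.el_one, one_mul]⟩
  | succ i ih =>
    obtain ⟨hlt, e⟩ := ih
    have hlt' : app R (orbSum R i c) < 2048 := hR.lt _
    refine ⟨?_, ?_⟩
    · rw [orbSum, ← comm]; exact Nat.xor_lt_two_pow (n := 11) hc hlt'
    · rw [pow_succ', e, pow_succ', K.el_mul, show Fr.Av c * K.el ρ * (Fr.Av (orbSum R i c) * K.el (ρ ^ i)) =
        Fr.Av c * (K.el ρ * Fr.Av (orbSum R i c) * (K.el ρ)⁻¹) * (K.el ρ * K.el (ρ ^ i)) by group,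
        hR.eq _ hlt, Fr.Av_mul hc hlt', comm]
      rfl

/-- The power of order half. -/
theorem vinv_iff {ρ : ↥Cfsg.M24} {R : List ℕ} (hR : Fr.Act (K.el ρ) R) {k : ℕ} (hk : 0 < k) (hρ : ρ ^ k = 1)
    (hmin : ∀ i, 0 < i → i < k → ρ ^ i ≠ 1) {c : ℕ} (hc : c < 2048) {u v : G}
    (huv : u * v = Fr.Av c * K.el ρ) :
    S3313.vinv (u, v) = Fr.Av 2 ↔ orbSum R k c = 2 := by
  obtain ⟨hlt, hpk⟩ := K.translate_pow hR hc k
  rw [hρ, K.el_one, mul_one] at hpk
  have himg : ∀ i, ∀ a < 2048, (Fr.Av c * K.el ρ) ^ i = Fr.Av a → ρ ^ i = 1 := fun i a ha e => by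
    obtain ⟨hl, e'⟩ := K.translate_pow hR hc i
    rw [e] at e'
    have hel : K.el (ρ ^ i) ∈ Fr.A := by
      have := mul_mem (inv_mem (Fr.Av_mem hl)) (Fr.Av_mem ha)
      rwa [e', inv_mul_cancel_left] at this
    have := (K.ker (K.κ (ρ ^ i))).2 hel
    rwa [K.sect] at this
  show (u * v) ^ (orderOf (u * v) / 2) = _ ↔ _
  rw [huv]
  set w := Fr.Av c * K.el ρ with hw
  have hdvd : orderOf w ∣ 2 * k := orderOf_dvd_of_pow_eq_one (by
    rw [mul_comm, pow_mul, hpk, pow_two, Fr.Av_sq hlt])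
  have hkn : k ∣ orderOf w := by
    have h1 : ρ ^ orderOf w = 1 := himg _ 0 (by norm_num) (by rw [pow_orderOf_eq_one, Fr.Av_zero])
    rw [← Nat.mod_add_div (orderOf w) k, pow_add, pow_mul, hρ, one_pow, mul_one] at h1
    by_contra hnd
    exact hmin _ (Nat.pos_of_ne_zero fun e => hnd (Nat.dvd_of_mod_eq_zero e)) (Nat.mod_lt _ hk) h1
  obtain ⟨m, hm⟩ := hkn
  have hm2 : m ∣ 2 := by
    rw [hm] at hdvd
    exact Nat.dvd_of_mul_dvd_mul_left hk (by rwa [mul_comm 2 k] at hdvd)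
  rcases (Nat.dvd_prime Nat.prime_two).1 hm2 with rfl | rfl
  · rw [mul_one] at hm
    have h1 : orbSum R k c ≠ 2 := fun e => Fr.two_ne_one (by rw [← e, ← hpk, ← hm, pow_orderOf_eq_one])
    simp only [h1, iff_false, hm]
    intro e
    rcases Nat.eq_zero_or_pos (k / 2) with h0 | h0
    · rw [h0, pow_zero] at e; exact Fr.two_ne_one e.symm
    · exact hmin _ h0 (by omega) (himg _ 2 (by norm_num) e)
  · rw [show orderOf w / 2 = k by omega, hpk]
    exact ⟨fun e => Fr.Av_inj hlt (by norm_num) e, fun e => by rw [e]⟩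

/-- The section of an involution with a matrix. -/
theorem el_invol {σ : ↥Cfsg.M24} (h : σ * σ = 1) : K.el σ * K.el σ = 1 := by rw [← K.el_mul, h, K.el_one]

/-- A translate is an involution exactly when the vector is fixed. -/
theorem translate_sq {σ : ↥Cfsg.M24} (h : σ * σ = 1) {M : List ℕ} (hM : Fr.Act (K.el σ) M) {a : ℕ} (ha : a < 2048) :
    Fr.Av a * K.el σ * (Fr.Av a * K.el σ) = 1 ↔ app M a = a := by
  refine ⟨fun e => Fr.coset_fixed hM (K.el_invol h) ha e, fun e => ?_⟩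
  rw [show Fr.Av a * K.el σ * (Fr.Av a * K.el σ) =
    Fr.Av a * (K.el σ * Fr.Av a * (K.el σ)⁻¹) * (K.el σ * K.el σ) by group, hM.eq a ha, e, Fr.Av_sq ha,
    K.el_invol h, one_mul]

/-- The conjugates of the central involution in a coset. -/
theorem mem_zL (hfus : Fr.Classes) {Q : ℕ} (hQ : matOK Q = true) (h2 : comp Q Q = idP)
    (hc : Q = idP ∨ imFull (matQ Q) = true ∧ permOf Q ≠ 1) {σ : ↥Cfsg.M24}
    (hσ : (σ : Equiv.Perm GolayPt) = permOf Q) {a : ℕ} (ha : a < 2048) :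
    a ∈ zL Q ↔ IsConj z (Fr.Av a * K.el σ) := by
  have hv : valid Q = true := by
    simp only [matOK, permOK, inM24, Bool.and_eq_true] at hQ; exact hQ.1.1.1
  unfold zL
  by_cases hid : Q = idP
  · rw [if_pos hid]
    have h1 : σ = 1 := Subtype.ext (by rw [hσ, hid, permOf_idP]; rfl)
    rw [h1, K.el_one, mul_one, isConj_iff, hfus a ha]
    simp [ha]
  rw [if_neg hid]
  obtain ⟨hfull, hne⟩ := hc.resolve_left hid
  have hσ2 : σ * σ = 1 := Subtype.ext (by rw [Subgroup.coe_mul, hσ, ← permOf_comp hv hv, h2, permOf_idP]; rfl)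
  have hσ1 : σ ≠ 1 := fun e => hne (by rw [← hσ, e]; rfl)
  have hM := K.act_el σ hQ hσ
  rw [imList_spec hfull]
  have hconj : ∀ w < 2048, Fr.Av (w ^^^ app (matQ Q) w) * K.el σ = Fr.Av w * K.el σ * (Fr.Av w)⁻¹ := fun w hw => by
    have := Fr.coset_move hM (v := 0) (by norm_num) hw
    rw [Fr.Av_zero, one_mul, Nat.zero_xor] at this
    exact this.symm
  constructor
  · rintro ⟨w, hw, rfl⟩
    have hfix : app (matQ Q) (w ^^^ app (matQ Q) w) = w ^^^ app (matQ Q) w := by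
      refine Fr.coset_fixed hM (K.el_invol hσ2) ha ?_
      rw [hconj w hw, show Fr.Av w * K.el σ * (Fr.Av w)⁻¹ * (Fr.Av w * K.el σ * (Fr.Av w)⁻¹) =
        Fr.Av w * (K.el σ * K.el σ) * (Fr.Av w)⁻¹ by group, K.el_invol hσ2, mul_one, mul_inv_cancel]
    exact (K.class_iff hfus hσ2 hσ1 ha ((K.translate_sq hσ2 hM ha).2 hfix)).2
      ⟨Fr.Av w, Fr.Av_mem hw, hconj w hw⟩
  · intro h
    have hinv : Fr.Av a * K.el σ * (Fr.Av a * K.el σ) = 1 := by
      obtain ⟨g, e⟩ := isConj_iff.1 h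
      rw [← e, show g * z * g⁻¹ * (g * z * g⁻¹) = g * (z * z) * g⁻¹ by group, S.ext.zz, mul_one, mul_inv_cancel]
    obtain ⟨_, ⟨w, hw, rfl⟩, e⟩ := (K.class_iff hfus hσ2 hσ1 ha hinv).1 h
    rw [← hconj w hw] at e
    exact ⟨w, hw, Fr.Av_inj ha (Nat.xor_lt_two_pow (n := 11) hw (hM.lt w)) (mul_right_cancel e)⟩

/-- The other involutions of a coset. -/
theorem mem_tL (D : Fr.Duadic) (hfus : Fr.Classes) {Q : ℕ} (hQ : matOK Q = true) (h2 : comp Q Q = idP)
    (hc : Q = idP ∨ imFull (matQ Q) = true ∧ permOf Q ≠ 1) {σ : ↥Cfsg.M24}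
    (hσ : (σ : Equiv.Perm GolayPt) = permOf Q) {a : ℕ} (ha : a < 2048) :
    a ∈ tL Q ↔ IsConj (Fr.Av 2) (Fr.Av a * K.el σ) := by
  unfold tL
  by_cases hid : Q = idP
  · rw [if_pos hid]
    have h1 : σ = 1 := Subtype.ext (by rw [hσ, hid, permOf_idP]; rfl)
    rw [h1, K.el_one, mul_one]
    simp only [List.mem_filter, List.mem_range, ha, true_and]
    refine ⟨Fr.duad_conj D ha, fun h => ?_⟩
    by_contra hT
    rw [Bool.not_eq_true] at hT
    refine Fr.not_conj_two hfus ((isConj_iff.2 ((hfus a ha).2 ⟨?_, hT⟩)).trans h.symm)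
    rintro rfl
    rw [Fr.Av_zero] at h
    exact Fr.two_ne_one (isConj_one_left.1 h)
  rw [if_neg hid]
  obtain ⟨hfull, hne⟩ := hc.resolve_left hid
  have hv : valid Q = true := by
    simp only [matOK, permOK, inM24, Bool.and_eq_true] at hQ; exact hQ.1.1.1
  have hσ2 : σ * σ = 1 := Subtype.ext (by rw [Subgroup.coe_mul, hσ, ← permOf_comp hv hv, h2, permOf_idP]; rfl)
  have hM := K.act_el σ hQ hσ
  have hz := K.mem_zL hfus hQ h2 hc hσ ha
  rw [zL, if_neg hid] at hz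
  simp only [List.mem_filter, mem_fixL, ha, true_and, Bool.not_eq_true', ← Bool.not_eq_true,
    List.contains_iff_mem, hz]
  constructor
  · rintro ⟨hfix, hnz⟩
    have hne1 : Fr.Av a * K.el σ ≠ 1 := fun e => by
      have hel : K.el σ ∈ Fr.A := by
        rw [show K.el σ = (Fr.Av a)⁻¹ from eq_inv_of_mul_eq_one_right e]
        exact inv_mem (Fr.Av_mem ha)
      have := (K.ker (K.κ σ)).2 hel
      rw [K.sect] at this
      exact hne (by rw [← hσ, this]; rfl)
    rcases Fr.invol_class D hfus (mul_mem (Subgroup.le_normalizer (Fr.Av_mem ha)) (K.κ σ).2)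
      ((K.translate_sq hσ2 hM ha).2 hfix) hne1 with h | h
    · exact absurd h.symm hnz
    · exact h.symm
  · intro h
    refine ⟨(K.translate_sq hσ2 hM ha).1 ?_, fun hz' => Fr.not_conj_two hfus (hz'.trans h.symm)⟩
    obtain ⟨g, e⟩ := isConj_iff.1 h
    rw [← e, show g * Fr.Av 2 * g⁻¹ * (g * Fr.Av 2 * g⁻¹) = g * (Fr.Av 2 * Fr.Av 2) * g⁻¹ by group,
      Fr.Av_sq (by norm_num), mul_one, mul_inv_cancel]

theorem zL_spec {Q : ℕ} (hQ : matOK Q = true) (hc : Q = idP ∨ imFull (matQ Q) = true ∧ permOf Q ≠ 1) :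
    (zL Q).Nodup ∧ ∀ a ∈ zL Q, a < 2048 := by
  simp only [matOK, Bool.and_eq_true, List.all_eq_true, decide_eq_true_eq] at hQ
  unfold zL
  by_cases hid : Q = idP
  · rw [if_pos hid]
    exact ⟨List.nodup_range.filter _, fun a ha => List.mem_range.1 (List.mem_filter.1 ha).1⟩
  · rw [if_neg hid]
    refine ⟨imList_nodup (hc.resolve_left hid).1, fun a ha => ?_⟩
    obtain ⟨w, hw, rfl⟩ := (imList_spec (hc.resolve_left hid).1).1 ha
    exact Nat.xor_lt_two_pow (n := 11) hw (app_lt (n := 11) hQ.2 w)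

theorem tL_spec (Q : ℕ) : (tL Q).Nodup ∧ ∀ a ∈ tL Q, a < 2048 := by
  unfold tL
  split
  · exact ⟨List.nodup_range.filter _, fun a ha => List.mem_range.1 (List.mem_filter.1 ha).1⟩
  · exact ⟨(nodup_fixL _).filter _, fun a ha => (mem_fixL.1 (List.mem_filter.1 ha).1).1⟩

theorem ord_spec {R k : ℕ} (hR : valid R = true) (h : ordOk R k = true) :
    0 < k ∧ permOf R ^ k = 1 ∧ ∀ i, 0 < i → i < k → permOf R ^ i ≠ 1 := by
  simp only [ordOk, Bool.and_eq_true, decide_eq_true_eq, beq_iff_eq, List.all_eq_true, List.mem_range,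
    Bool.or_eq_true, List.any_eq_true, bne_iff_ne] at h
  obtain ⟨⟨hk, hpow⟩, hmin⟩ := h
  have hp : ∀ i, valid (powP R i) = true ∧ permOf (powP R i) = permOf R ^ i := by
    intro i
    induction i with
    | zero => exact ⟨valid_idP, by rw [powP, permOf_idP, pow_zero]⟩
    | succ i ih => exact ⟨valid_comp hR ih.1, by rw [powP, permOf_comp hR ih.1, ih.2, pow_succ']⟩
  refine ⟨hk, by rw [← (hp k).2, hpow, permOf_idP], fun i h0 hi e => ?_⟩
  obtain ⟨x, hx, hne⟩ := (hmin i hi).resolve_left (by omega)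
  refine hne ?_
  rw [← (hp i).2] at e
  have := idx_permOf (hp i).1 (pt x)
  rw [e, Equiv.Perm.one_apply, idx_pt hx] at this
  exact this.symm

/-- The value of a count. -/
theorem cCount_eq (D : Fr.Duadic) (hfus : Fr.Classes) {Pp Q k c : ℕ} (h : countOk Pp Q k c = true) :
    K.cCount (permOf Pp) (permOf Q) = c := by
  classical
  simp only [countOk, Bool.and_eq_true, beq_iff_eq, decide_eq_true_eq, Bool.or_eq_true, List.any_eq_true,
    List.mem_range, bne_iff_ne] at h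
  obtain ⟨⟨⟨⟨⟨⟨⟨⟨hP, hQ⟩, hP2⟩, hQ2⟩, hord⟩, hPc⟩, hQc⟩, hlen⟩, hcount⟩ := h
  have val : ∀ {X : ℕ}, matOK X = true → valid X = true ∧ permOf X ∈ Cfsg.M24 := fun {X} h => by
    simp only [matOK, permOK, Bool.and_eq_true] at h
    refine ⟨?_, permOf_mem_M24 h.1.1⟩
    have := h.1.1; simp only [inM24, Bool.and_eq_true] at this; exact this.1
  obtain ⟨hPv, hPm⟩ := val hP
  obtain ⟨hQv, hQm⟩ := val hQ
  have conv : ∀ {X : ℕ}, valid X = true → (X = idP ∨ imFull (matQ X) = true ∧ ∃ x < 24, Golay.get X x ≠ x) →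
      (X = idP ∨ imFull (matQ X) = true ∧ permOf X ≠ 1) := fun {X} hX h =>
    h.imp_right fun ⟨h1, x, hx, hne⟩ => ⟨h1, fun e => hne (by
      have := idx_permOf hX (pt x)
      rw [e, Equiv.Perm.one_apply, idx_pt hx] at this
      exact this.symm)⟩
  have hPc' := conv hPv hPc
  have hQc' := conv hQv hQc
  set σ : ↥Cfsg.M24 := ⟨permOf Pp, hPm⟩ with hσ
  set τ : ↥Cfsg.M24 := ⟨permOf Q, hQm⟩ with hτ
  set MP := matQ Pp with hMP
  set R := mm MP (matQ Q) with hRdef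
  set L := powSum R k with hL
  have hA1 := K.act_el σ hP rfl
  have hR : Fr.Act (K.el (σ * τ)) R := by rw [K.el_mul]; exact Fr.act_mul hA1 (K.act_el τ hQ rfl)
  obtain ⟨hk, hρ, hmin⟩ := ord_spec (valid_comp hPv hQv) hord
  rw [permOf_comp hPv hQv] at hρ hmin
  have hρ' : (σ * τ) ^ k = 1 := Subtype.ext (by push_cast; exact hρ)
  have hmin' : ∀ i, 0 < i → i < k → (σ * τ) ^ i ≠ 1 := fun i h0 hi e => hmin i h0 hi (by
    have := congrArg Subtype.val e; push_cast at this; exact this)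
  obtain ⟨zn, zlt⟩ := zL_spec hP hPc'
  obtain ⟨tn, tlt⟩ := tL_spec Q
  -- the condition
  have hcond : ∀ a < 2048, ∀ b < 2048, K.Fib (permOf Pp) (permOf Q) (Fr.Av a * K.el σ, Fr.Av b * K.el τ) ↔
      a ∈ zL Pp ∧ b ∈ tL Q ∧ app L (app MP b) = app L a ^^^ 2 := by
    intro a ha b hb
    have hMb := hA1.lt b
    have hcl := Nat.xor_lt_two_pow (n := 11) ha hMb
    have huv : Fr.Av a * K.el σ * (Fr.Av b * K.el τ) = Fr.Av (a ^^^ app MP b) * K.el (σ * τ) := by
      rw [K.el_mul, show Fr.Av a * K.el σ * (Fr.Av b * K.el τ) =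
        Fr.Av a * (K.el σ * Fr.Av b * (K.el σ)⁻¹) * (K.el σ * K.el τ) by group, hA1.eq b hb, Fr.Av_mul ha hMb]
    have hN : ∀ {x : ℕ} (hx : x < 2048) (π : ↥Cfsg.M24),
        ∃ h : Fr.Av x * K.el π ∈ Subgroup.normalizer (Fr.A : Set G),
          (K.f ⟨_, h⟩ : Equiv.Perm GolayPt) = (π : Equiv.Perm GolayPt) := fun {x} hx π => by
      have hxN : Fr.Av x ∈ Subgroup.normalizer (Fr.A : Set G) := Subgroup.le_normalizer (Fr.Av_mem hx)
      refine ⟨mul_mem hxN (K.κ π).2, ?_⟩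
      show (K.f (⟨Fr.Av x, hxN⟩ * K.κ π) : Equiv.Perm GolayPt) = _
      rw [map_mul, (K.ker ⟨Fr.Av x, hxN⟩).2 (Fr.Av_mem hx), one_mul, K.sect]
    have hxor : orbSum R k (a ^^^ app MP b) = 2 ↔ app L (app MP b) = app L a ^^^ 2 := by
      rw [← app_powSum R k hcl, ← hL, app_xor]
      constructor
      · intro e; rw [← e, ← Nat.xor_assoc, Nat.xor_self, Nat.zero_xor]
      · intro e; rw [e, ← Nat.xor_assoc, Nat.xor_self, Nat.zero_xor]
    unfold Fib Good
    rw [K.mem_zL hfus hP hP2 hPc' (σ := σ) rfl ha, K.mem_tL D hfus hQ hQ2 hQc' (σ := τ) rfl hb,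
      K.vinv_iff hR hk hρ' hmin' hcl huv, hxor]
    constructor
    · rintro ⟨⟨h1, h2, h3⟩, -⟩; exact ⟨h1, h2, h3⟩
    · rintro ⟨h1, h2, h3⟩
      obtain ⟨n1, e1⟩ := hN ha σ
      obtain ⟨n2, e2⟩ := hN hb τ
      exact ⟨⟨h1, h2, h3⟩, n1, n2, e1, e2⟩
  -- the bijection
  set T := ((zL Pp).toFinset ×ˢ (tL Q).toFinset).filter fun q => app L (app MP q.2) = app L q.1 ^^^ 2 with hT
  have hmemT : ∀ {q : ℕ × ℕ}, q ∈ T ↔ q.1 ∈ zL Pp ∧ q.2 ∈ tL Q ∧ app L (app MP q.2) = app L q.1 ^^^ 2 := by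
    intro q; simp [hT, and_assoc]
  have hbij : Function.Bijective fun q : ↥T =>
      (⟨(Fr.Av q.1.1 * K.el σ, Fr.Av q.1.2 * K.el τ),
        (hcond _ (zlt _ (hmemT.1 q.2).1) _ (tlt _ (hmemT.1 q.2).2.1)).2 (hmemT.1 q.2)⟩ :
          {p : G × G // K.Fib (permOf Pp) (permOf Q) p}) := by
    refine ⟨fun q q' e => ?_, fun ⟨⟨u, v⟩, hp⟩ => ?_⟩
    · have e' := congrArg Subtype.val e
      simp only [Prod.ext_iff, mul_left_inj] at e'
      exact Subtype.ext (Prod.ext
        (Fr.Av_inj (zlt _ (hmemT.1 q.2).1) (zlt _ (hmemT.1 q'.2).1) e'.1)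
        (Fr.Av_inj (tlt _ (hmemT.1 q.2).2.1) (tlt _ (hmemT.1 q'.2).2.1) e'.2))
    · obtain ⟨hg, h1, h2, e1, e2⟩ := hp
      obtain ⟨a, ha, ea⟩ := K.exists_translate h1
      obtain ⟨b, hb, eb⟩ := K.exists_translate h2
      rw [show K.f ⟨u, h1⟩ = σ from Subtype.ext e1] at ea
      rw [show K.f ⟨v, h2⟩ = τ from Subtype.ext e2] at eb
      obtain rfl : u = _ := ea
      obtain rfl : v = _ := eb
      exact ⟨⟨(a, b), hmemT.2 ((hcond a ha b hb).1 ⟨hg, h1, h2, e1, e2⟩)⟩, rfl⟩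
  rw [cCount, ← Nat.card_eq_of_bijective _ hbij, Nat.card_eq_fintype_card, Fintype.card_coe, hT,
    Finset.card_filter, Finset.sum_product, ← hcount]
  unfold countN
  rw [List.sum_toFinset _ zn]
  refine congrArg List.sum (List.map_congr_left fun a ha => ?_)
  rw [← Finset.card_filter]
  have hLlt : ∀ v, app L v < 2048 := fun v => by
    refine app_lt (n := 11) (fun x hx => ?_) v
    simp only [hL, powSum, List.mem_map, List.mem_range] at hx
    obtain ⟨i, hi, rfl⟩ := hx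
    exact (K.translate_pow hR (Nat.pow_lt_pow_right (by norm_num : 1 < 2) hi) k).1
  rw [digit_hist (by rw [List.length_map]; exact hlen) (fun x hx => by
    obtain ⟨b, -, rfl⟩ := List.mem_map.1 hx; exact hLlt _)
    (Nat.xor_lt_two_pow (n := 11) (hLlt a) (by norm_num)), List.count_eq_countP, List.countP_map,
    List.countP_eq_length_filter, ← List.toFinset_card_of_nodup (tn.filter _)]
  refine congrArg Finset.card ?_
  ext b
  simp [hMP]

/-- The sum over the second member for the representatives other than one. -/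
theorem inner_sum (D : Fr.Duadic) (hfus : Fr.Classes) {Pp : ℕ} {L : List ℕ} {gens : List ℕ} {n : ℕ}
    (hS : Census.Stage (L :: [[3]]) gens n) (hP : Census.fam L = moved (permOf Pp)) (hPi : permOf Pp ∈ invSet)
    {Os : List Census.Orb} {Rows : List (ℕ × ℕ × ℕ)} {Pos : List ℕ} (hok : ∀ O ∈ Os, O.ok gens = true)
    (hc : cenOk gens Os (Rows.map Prod.fst) Pos = true)
    (hcount : (Rows.all fun r => countOk Pp r.1 r.2.1 r.2.2) = true) :
    ∑ τ ∈ invSet, K.cCount (permOf Pp) τ = ((Os.zip Rows).map fun e => e.1.n * e.2.2.2).sum := by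
  rw [sum_centraliser hS (fx_cen_le L) hok hc (fun τ => K.cCount (permOf Pp) τ) fun g hg τ _ => ?_, List.zip_map_right,
    List.map_map]
  · refine congrArg List.sum (List.map_congr_left fun e he => ?_)
    show e.1.n * K.cCount (permOf Pp) (permOf e.2.1) = _
    rw [K.cCount_eq D hfus (List.all_eq_true.1 hcount e.2 (List.of_mem_zip he).2)]
  · obtain ⟨hgm, hfix⟩ := Census.mem_Fx.1 hg
    have hgσ : g * permOf Pp * g⁻¹ = permOf Pp := by
      refine moved_inj ?_ (mem_invSet.1 hPi).2.1 ?_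
      · rw [show g * permOf Pp * g⁻¹ * (g * permOf Pp * g⁻¹) = g * (permOf Pp * permOf Pp) * g⁻¹ by group,
          (mem_invSet.1 hPi).2.1, mul_one, mul_inv_cancel]
      · rw [← smul_moved, ← hP]
        exact hfix L (List.mem_cons_self ..)
    conv_lhs => rw [← hgσ]
    exact K.cCount_conj (fx_cen_le L hg)

theorem cen_checks : cenOk cen1G cen1Os (cen1Rows.map Prod.fst) cen1Pos = true ∧
    cenOk cen2G cen2Os (cen2Rows.map Prod.fst) cen2Pos = true ∧
    cenOk cen3G cen3Os (cen3Rows.map Prod.fst) cen3Pos = true := by decide +kernel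

theorem sums_check : ((cen1Os.zip cen1Rows).map fun e => e.1.n * e.2.2.2).sum = 709888 ∧
    ((cen2Os.zip cen2Rows).map fun e => e.1.n * e.2.2.2).sum = 122896 ∧
    ((cen3Os.zip cen3Rows).map fun e => e.1.n * e.2.2.2).sum = 839712 := by decide +kernel

/-- The count. -/
theorem aCount_eq (K : Fr.Kap) (D : Fr.Duadic) (hfus : Fr.Classes) : S3313.aCount z (Fr.Av 2) (Fr.Av 2) = 1544188503 := by
  rw [K.aCount_sum D hfus, sum_classes]
  · have h0 : ∑ τ ∈ invSet, K.cCount (permOf (invRep 0)) τ = 4139751 := by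
      rw [sum_classes _ fun g hg τ _ => ?_]
      · show K.cCount (permOf (invReps.getD 0 0)) (permOf (invReps.getD 0 0)) +
          330 * K.cCount (permOf (invReps.getD 0 0)) (permOf (invReps.getD 1 0)) +
          1155 * K.cCount (permOf (invReps.getD 0 0)) (permOf (invReps.getD 2 0)) +
          1386 * K.cCount (permOf (invReps.getD 0 0)) (permOf (invReps.getD 3 0)) = _
        rw [K.cCount_eq D hfus count_one0, K.cCount_eq D hfus count_one1, K.cCount_eq D hfus count_one2,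
          K.cCount_eq D hfus count_one3]
      · have he : permOf (invRep 0) = 1 := by
          rw [show invRep 0 = idP by decide +kernel, permOf_idP]
        conv_lhs => rw [show permOf (invRep 0) = g * permOf (invRep 0) * g⁻¹ by rw [he]; group]
        exact K.cCount_conj hg
    obtain ⟨c1, c2, c3⟩ := cen_checks
    obtain ⟨s1, s2, s3⟩ := sums_check
    have r1 := repOk_spec (invRep_spec 1)
    have r2 := repOk_spec (invRep_spec 2)
    have r3 := repOk_spec (invRep_spec 3)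
    rw [h0, K.inner_sum D hfus stageCen1 r1.2 r1.1 (fun O hO => by
        simp only [cen1Os, List.mem_cons, List.not_mem_nil, or_false] at hO
        rcases hO with rfl | rfl | rfl | rfl | rfl | rfl | rfl | rfl | rfl | rfl | rfl | rfl | rfl | rfl | rfl | rfl | rfl | rfl
        exacts [cen1O0_ok, cen1O1_ok, cen1O2_ok, cen1O3_ok, cen1O4_ok, cen1O5_ok, cen1O6_ok, cen1O7_ok, cen1O8_ok, cen1O9_ok, cen1O10_ok, cen1O11_ok, cen1O12_ok, cen1O13_ok, cen1O14_ok, cen1O15_ok, cen1O16_ok, cen1O17_ok]) c1 count_cen1,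
      K.inner_sum D hfus stageCen2 r2.2 r2.1 (fun O hO => by
        simp only [cen2Os, List.mem_cons, List.not_mem_nil, or_false] at hO
        rcases hO with rfl | rfl | rfl | rfl | rfl | rfl | rfl | rfl | rfl | rfl | rfl | rfl | rfl | rfl | rfl | rfl | rfl | rfl | rfl | rfl | rfl | rfl | rfl | rfl | rfl | rfl | rfl | rfl | rfl | rfl | rfl
        exacts [cen2O0_ok, cen2O1_ok, cen2O2_ok, cen2O3_ok, cen2O4_ok, cen2O5_ok, cen2O6_ok, cen2O7_ok, cen2O8_ok, cen2O9_ok, cen2O10_ok, cen2O11_ok, cen2O12_ok, cen2O13_ok, cen2O14_ok, cen2O15_ok, cen2O16_ok, cen2O17_ok, cen2O18_ok, cen2O19_ok, cen2O20_ok, cen2O21_ok, cen2O22_ok, cen2O23_ok, cen2O24_ok, cen2O25_ok, cen2O26_ok, cen2O27_ok, cen2O28_ok, cen2O29_ok, cen2O30_ok]) c2 count_cen2,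
      K.inner_sum D hfus stageCen3 r3.2 r3.1 (fun O hO => by
        simp only [cen3Os, List.mem_cons, List.not_mem_nil, or_false] at hO
        rcases hO with rfl | rfl | rfl | rfl | rfl | rfl | rfl | rfl | rfl | rfl | rfl | rfl | rfl | rfl | rfl | rfl | rfl | rfl | rfl | rfl | rfl | rfl | rfl | rfl | rfl | rfl
        exacts [cen3O0_ok, cen3O1_ok, cen3O2_ok, cen3O3_ok, cen3O4_ok, cen3O5_ok, cen3O6_ok, cen3O7_ok, cen3O8_ok, cen3O9_ok, cen3O10_ok, cen3O11_ok, cen3O12_ok, cen3O13_ok, cen3O14_ok, cen3O15_ok, cen3O16_ok, cen3O17_ok, cen3O18_ok, cen3O19_ok, cen3O20_ok, cen3O21_ok, cen3O22_ok, cen3O23_ok, cen3O24_ok, cen3O25_ok]) c3 count_cen3, s1, s2, s3]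
  · intro g hg σ _
    show ∑ τ ∈ invSet, K.cCount (g * σ * g⁻¹) τ = ∑ τ ∈ invSet, K.cCount σ τ
    refine Finset.sum_bij' (fun τ _ => g⁻¹ * τ * g) (fun τ _ => g * τ * g⁻¹) (fun τ hτ => ?_) (fun τ hτ => ?_)
      (fun τ _ => by group) (fun τ _ => by group) fun τ _ => ?_
    · have := conj_mem_invSet (inv_mem hg) hτ
      simpa using this
    · exact conj_mem_invSet hg hτ
    · conv_lhs => rw [show τ = g * (g⁻¹ * τ * g) * g⁻¹ by group]
      exact K.cCount_conj hg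

end Kap

/-- The pairs at the involution of the second class. -/
theorem aCount_two (D : Fr.Duadic) (hfus : Fr.Classes) : S3313.aCount z (Fr.Av 2) (Fr.Av 2) = 1544188503 := by
  obtain ⟨K⟩ := Fr.exists_kap D
  exact K.aCount_eq D hfus

end Cfsg.Agent.Spor.JFour.Frame
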