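import Cfsg.Agent.Lib.Spor.JFourType.OrderT.ClassData

/-!
The count attached to two involutions of the stabiliser of the standard pair, as a computation in the coordinates.
-/

set_option autoImplicit false
set_option maxRecDepth 100000

namespace Cfsg.Agent.Spor.JFour.OrderT

open Cfsg Cfsg.Agent.Spor.Golay
open Cfsg.Agent.Spor.Cos.J4Sub (app mm app_xor app_zero app_mm app_lt)
open Cfsg.Agent.Spor.JFour.Mathieu (tMask permOK)

/-- The fixed vectors of a matrix. -/
def fixL (M : List ℕ) : List ℕ :=
  (List.range 32).flatMap fun h =>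
    ((List.range 64).filter fun l => (h <<< 6 ^^^ app M (h <<< 6)) == l ^^^ app M l).map fun l => h <<< 6 ^^^ l

theorem split_six (v : ℕ) : (v / 64) <<< 6 ^^^ v % 64 = v := by
  refine Nat.eq_of_testBit_eq fun i => ?_
  rw [Nat.testBit_xor, Nat.testBit_shiftLeft, show (64 : ℕ) = 2 ^ 6 from rfl, Nat.testBit_div_two_pow,
    Nat.testBit_mod_two_pow]
  by_cases h : i < 6
  · simp [h, not_le.2 h]
  · simp [not_lt.1 h, h]

theorem mem_fixL {M : List ℕ} {v : ℕ} : v ∈ fixL M ↔ v < 2048 ∧ app M v = v := by
  have key : ∀ a b : ℕ, a ^^^ app M a = b ^^^ app M b ↔ app M (a ^^^ b) = a ^^^ b := fun a b => by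
    rw [app_xor]
    constructor
    · intro h
      calc app M a ^^^ app M b = (a ^^^ (a ^^^ app M a)) ^^^ app M b := by
            rw [← Nat.xor_assoc, Nat.xor_self, Nat.zero_xor]
        _ = _ := by
            rw [h]; simp only [Nat.xor_assoc, Nat.xor_self, Nat.xor_zero]
    · intro h
      calc a ^^^ app M a = a ^^^ ((app M a ^^^ app M b) ^^^ app M b) := by
            rw [Nat.xor_assoc, Nat.xor_self, Nat.xor_zero]
        _ = _ := by rw [h, ← Nat.xor_assoc, ← Nat.xor_assoc, Nat.xor_self, Nat.zero_xor]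
  simp only [fixL, List.mem_flatMap, List.mem_range, List.mem_map, List.mem_filter, beq_iff_eq, key]
  constructor
  · rintro ⟨h, hh, l, ⟨hl, e⟩, rfl⟩
    exact ⟨Nat.xor_lt_two_pow (n := 11) (by rw [Nat.shiftLeft_eq]; omega) (by omega), e⟩
  · rintro ⟨hv, e⟩
    exact ⟨v / 64, by omega, v % 64, ⟨Nat.mod_lt _ (by norm_num), by rw [split_six]; exact e⟩, split_six v⟩

theorem nodup_fixL (M : List ℕ) : (fixL M).Nodup := by
  rw [fixL, List.nodup_flatMap]
  refine ⟨fun h _ => (List.nodup_range.filter _).map_on fun a _ b _ e => ?_, ?_⟩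
  · have := congrArg (fun x => h <<< 6 ^^^ x) e
    simpa [← Nat.xor_assoc] using this
  · refine (List.nodup_range (n := 32)).imp fun {a b} hab => List.disjoint_left.2 fun x hx hy => hab ?_
    simp only [List.mem_map, List.mem_filter, List.mem_range] at hx hy
    obtain ⟨l, ⟨hl, -⟩, rfl⟩ := hx
    obtain ⟨m, ⟨hm, -⟩, e⟩ := hy
    have h1 := congrArg (fun x => x / 2 ^ 6) e
    simp only [Nat.shiftLeft_eq] at h1
    have hd : ∀ c k, k < 64 → (c * 2 ^ 6 ^^^ k) / 2 ^ 6 = c := fun c k hk => by
      refine Nat.eq_of_testBit_eq fun i => ?_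
      rw [Nat.testBit_div_two_pow, Nat.testBit_xor, Nat.testBit_mul_two_pow,
        Nat.testBit_lt_two_pow (lt_of_lt_of_le hk (show 64 ≤ 2 ^ (i + 6) from
          (Nat.pow_le_pow_right two_pos (show 6 ≤ i + 6 by omega))))]
      simp
    rw [hd _ _ hm, hd _ _ hl] at h1
    exact h1.symm

/-- The image list is the whole image, without repetitions. -/
def imFull (M : List ℕ) : Bool :=
  ((List.range 11).all fun i => (imList M).contains (2 ^ i ^^^ app M (2 ^ i))) &&
    ((imList M).all fun x => (List.range 11).all fun i => (imList M).contains (x ^^^ (2 ^ i ^^^ app M (2 ^ i)))) &&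
    (imList M).contains 0 && decide (imList M).Nodup

theorem imList_spec {M : List ℕ} (h : imFull M = true) {v : ℕ} :
    v ∈ imList M ↔ ∃ w < 2048, v = w ^^^ app M w := by
  refine ⟨fun hv => mem_imList M (List.contains_iff_mem.2 hv), ?_⟩
  simp only [imFull, Bool.and_eq_true, List.all_eq_true, List.mem_range, List.contains_iff_mem, decide_eq_true_eq] at h
  obtain ⟨⟨⟨-, h2⟩, h3⟩, -⟩ := h
  rintro ⟨w, hw, rfl⟩
  refine xor_induction (p := fun w => w ^^^ app M w ∈ imList M) ?_ 11 (fun i hi m _ ih => ?_) w hw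
  · rw [app_zero, Nat.xor_self]; exact h3
  · have := h2 _ ih i hi
    rw [app_xor]
    convert this using 1
    simp only [Nat.xor_assoc]
    rw [Nat.xor_comm (2 ^ i) (m ^^^ _), Nat.xor_assoc]
    congr 1
    rw [Nat.xor_comm (app M (2 ^ i)) (app M m), Nat.xor_assoc]
    congr 1
    rw [Nat.xor_comm]

theorem imList_nodup {M : List ℕ} (h : imFull M = true) : (imList M).Nodup := by
  simp only [imFull, Bool.and_eq_true, decide_eq_true_eq] at h
  exact h.2

/-- The conjugates of the central involution in a coset. -/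
def zL (P : ℕ) : List ℕ :=
  if P = idP then (List.range 2048).filter fun v => (v != 0) && !(tMask.testBit v) else imList (matQ P)

/-- The other involutions of a coset. -/
def tL (Q : ℕ) : List ℕ :=
  if Q = idP then (List.range 2048).filter fun v => tMask.testBit v
  else (fixL (matQ Q)).filter fun v => !((imList (matQ Q)).contains v)

/-- The sum of the orbit of a vector of given length. -/
def orbSum (R : List ℕ) : ℕ → ℕ → ℕ
  | 0, _ => 0
  | k + 1, v => v ^^^ orbSum R k (app R v)

/-- The sum of the first powers. -/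
def powSum (R : List ℕ) (k : ℕ) : List ℕ := (List.range 11).map fun i => orbSum R k (2 ^ i)

theorem orbSum_xor (R : List ℕ) : ∀ k a b, orbSum R k (a ^^^ b) = orbSum R k a ^^^ orbSum R k b
  | 0, _, _ => by simp [orbSum]
  | k + 1, a, b => by
    simp only [orbSum, app_xor, orbSum_xor R k]
    simp only [Nat.xor_assoc]
    congr 1
    rw [← Nat.xor_assoc, Nat.xor_comm b, Nat.xor_assoc]

theorem app_map {f : ℕ → ℕ} (hf : ∀ a b, f (a ^^^ b) = f a ^^^ f b) :
    ∀ (n : ℕ) (s : ℕ) (v : ℕ), v < 2 ^ n → app ((List.range' s n).map fun i => f (2 ^ i)) v = f (v <<< s)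
  | 0, s, v, hv => by
    obtain rfl : v = 0 := by simpa using hv
    have h0 : f 0 = 0 := by have := hf 0 0; simpa using this
    simp [Cos.J4Sub.app, h0]
  | n + 1, s, v, hv => by
    rw [List.range'_succ, List.map_cons, Cos.J4Sub.app, app_map hf n (s + 1) (v / 2) (by omega)]
    have hv2 : v <<< s = (v % 2) <<< s ^^^ (v / 2) <<< (s + 1) := by
      refine Nat.eq_of_testBit_eq fun i => ?_
      rw [Nat.testBit_xor, Nat.testBit_shiftLeft, Nat.testBit_shiftLeft, Nat.testBit_shiftLeft]
      by_cases h1 : s ≤ i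
      · rcases Nat.eq_or_lt_of_le h1 with rfl | h2
        · simp [Nat.mod_two_eq_zero_or_one, Nat.testBit_zero]
        · obtain ⟨j, rfl⟩ : ∃ j, i = s + 1 + j := ⟨i - (s + 1), by omega⟩
          rw [show s + 1 + j - s = j + 1 by omega, show s + 1 + j - (s + 1) = j by omega,
            Nat.testBit_succ, Nat.testBit_succ]
          simp [show v % 2 / 2 = 0 by omega]
          try omega
      · simp [h1, show ¬ s + 1 ≤ i by omega]
    rw [hv2, hf]
    rcases Nat.mod_two_eq_zero_or_one v with h | h
    · have h0 : f 0 = 0 := by have := hf 0 0; simpa using this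
      simp [h, h0, show Nat.beq 0 1 = false from rfl]
    · simp [h, Nat.shiftLeft_eq]

theorem app_powSum (R : List ℕ) (k : ℕ) {v : ℕ} (hv : v < 2048) : app (powSum R k) v = orbSum R k v := by
  rw [powSum, List.range_eq_range', app_map (orbSum_xor R k) 11 0 v hv, Nat.shiftLeft_zero]

/-- A histogram in digits of nine bits. -/
def hist : List ℕ → ℕ
  | [] => 0
  | x :: L => 2 ^ (9 * x) + hist L

/-- A digit of the histogram. -/
def digit (H x : ℕ) : ℕ := (H >>> (9 * x)) % 512

theorem hist_sum {N : ℕ} : ∀ {L : List ℕ}, (∀ x ∈ L, x < N) →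
    hist L = ∑ x ∈ Finset.range N, L.count x * 2 ^ (9 * x)
  | [], _ => by simp [hist]
  | a :: L, h => by
    rw [hist, hist_sum fun x hx => h x (List.mem_cons_of_mem _ hx)]
    simp only [List.count_cons, add_mul, Finset.sum_add_distrib, beq_iff_eq, ite_mul, one_mul, zero_mul]
    rw [Finset.sum_ite_eq, if_pos (Finset.mem_range.2 (h a (List.mem_cons_self ..))), add_comm]

theorem digit_sum (c : ℕ → ℕ) (hc : ∀ x, c x < 512) : ∀ N x, x < N →
    digit (∑ y ∈ Finset.range N, c y * 2 ^ (9 * y)) x = c x := by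
  intro N
  induction N generalizing c with
  | zero => intro x hx; omega
  | succ N ih =>
    intro x hx
    rw [Finset.sum_range_succ']
    have hrest : ∑ k ∈ Finset.range N, c (k + 1) * 2 ^ (9 * (k + 1)) =
        512 * ∑ k ∈ Finset.range N, c (k + 1) * 2 ^ (9 * k) := by
      rw [Finset.mul_sum]
      exact Finset.sum_congr rfl fun k _ => by rw [Nat.mul_succ, pow_add]; ring
    rw [hrest, Nat.mul_zero, pow_zero, mul_one]
    generalize hS : ∑ k ∈ Finset.range N, c (k + 1) * 2 ^ (9 * k) = T
    unfold digit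
    rcases x with _ | x
    · have := hc 0
      rw [Nat.mul_zero, Nat.shiftRight_zero]
      omega
    · rw [Nat.shiftRight_eq_div_pow, show 9 * (x + 1) = 9 + 9 * x by ring, pow_add, ← Nat.div_div_eq_div_mul]
      have := hc 0
      rw [show (512 * T + c 0) / 2 ^ 9 = T by omega, ← hS, ← Nat.shiftRight_eq_div_pow]
      exact ih (fun k => c (k + 1)) (fun k => hc (k + 1)) x (by omega)

theorem digit_hist {L : List ℕ} (hl : L.length < 512) (h : ∀ x ∈ L, x < 2048) {x : ℕ} (hx : x < 2048) :
    digit (hist L) x = L.count x := by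
  rw [hist_sum h]
  exact digit_sum (fun y => L.count y) (fun y => lt_of_le_of_lt List.count_le_length hl) 2048 x hx

/-- The packed powers. -/
def powP (R : ℕ) : ℕ → ℕ
  | 0 => idP
  | k + 1 => comp R (powP R k)

/-- The order of a packed permutation. -/
def ordOk (R k : ℕ) : Bool :=
  decide (0 < k) && (powP R k == idP) &&
    (List.range k).all fun i => (i == 0) || (List.range 24).any fun x => Golay.get (powP R i) x != x

/-- The number of solutions. -/
def countN (L : List ℕ) (P Q : ℕ) : ℕ :=
  ((zL P).map fun a =>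
    digit (hist ((tL Q).map fun b => app L (app (matQ P) b))) (app L a ^^^ 2)).sum

/-- All conditions on a pair of involutions and the count. -/
def countOk (P Q k c : ℕ) : Bool :=
  matOK P && matOK Q && (comp P P == idP) && (comp Q Q == idP) && ordOk (comp P Q) k &&
    ((P == idP) || (imFull (matQ P) && (List.range 24).any fun x => Golay.get P x != x)) &&
    ((Q == idP) || (imFull (matQ Q) && (List.range 24).any fun x => Golay.get Q x != x)) &&
    decide ((tL Q).length < 512) && (countN (powSum (mm (matQ P) (matQ Q)) k) P Q == c)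

end Cfsg.Agent.Spor.JFour.OrderT
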